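import Cfsg.Agent.Lib.Small.DFourThompson.Rad

/-!
Products of two conjugates of the Levi element: the criterion and the two cells of short and intermediate
distance.
-/

set_option autoImplicit false
set_option maxRecDepth 4000
set_option linter.unusedSectionVars false
set_option linter.unusedSimpArgs false

namespace Cfsg.Agent.Small.DFourThompson

open Cfsg.Lie Matrix Cfsg.Agent.Lie Cfsg.Agent.Small.D4Torus Cfsg.Agent.Small.SpFourThompson
open Cfsg.Agent.Small.GTwoThompson (GoodS)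
open Cfsg.Agent.Lie.D4 (Setup neZero_rank)
open Cfsg.Agent.Lie.D4.Setup (cB)
open scoped MatrixGroups

local notation "GD" => GL chevD4.Idx

variable {K : Type*} [Field K] [Fintype K] {q : ℕ} (S : Setup K q)

/-- The parameters of the chosen element. -/
structure Par where
  U : Kˣ
  A : GL (Fin 2) (Fq S)
  ell : Ell A.1.trace A.1.det
  cent : ∀ g ∈ twistedD4 K q, Commute g (Lv S (U, A)) → g ^ ((q ^ 3 - 1) * (q + 1)) = 1

variable {S} (P : Par S)

/-- The chosen element. -/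
noncomputable def Par.x : GD K := Lv S (P.U, P.A)

/-- Its determinant. -/
noncomputable def Par.d : (Fq S)ˣ := Matrix.GeneralLinearGroup.det P.A

theorem Par.d_val : (P.d : Fq S) = P.A.1.det := Matrix.GeneralLinearGroup.val_det_apply _

/-- Products of two conjugates. -/
def Cov (g : GD K) : Prop :=
  ∃ y ∈ twistedD4 K q, ∃ z ∈ twistedD4 K q, g = y * P.x * y⁻¹ * (z * P.x * z⁻¹)

theorem cov_conj {g y : GD K} (hy : y ∈ twistedD4 K q) (h : Cov P (y * g * y⁻¹)) : Cov P g := by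
  obtain ⟨a, ha, b, hb, e⟩ := h
  refine ⟨y⁻¹ * a, mul_mem (inv_mem hy) ha, y⁻¹ * b, mul_mem (inv_mem hy) hb, ?_⟩
  rw [show g = y⁻¹ * (y * g * y⁻¹) * y by group, e]
  group

theorem copr {a b : ℕ} (h : a ∣ b + 1) : a.Coprime b :=
  Nat.dvd_one.1 ((Nat.dvd_add_right (Nat.gcd_dvd_right a b)).1 ((Nat.gcd_dvd_left a b).trans h))

include S in
theorem coprime_orders : Nat.Coprime (q ^ 12) ((q ^ 3 - 1) * (q + 1)) := by
  refine Nat.Coprime.pow_left 12 (Nat.Coprime.mul_right (copr ?_) ?_)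
  · rw [Nat.sub_add_cancel (Nat.one_le_pow _ _ (by have := S.hq; omega))]
    exact dvd_pow_self q (by norm_num)
  · exact Nat.coprime_self_add_right.2 (Nat.coprime_one_right q)

include S in
theorem pow_q12 {u : GD K} (hu : u ∈ Upos (K := K) (q := q) ∨ u ∈ Uneg (K := K) (q := q)) : u ^ q ^ 12 = 1 := by
  have key : ∀ z : GD K, z ∈ (factsD4.tsys K).U → z ∈ twistedD4 K q → z ^ q ^ 12 = 1 := by
    intro z hz hG
    have h := S.data.card_U
    change Nat.card ↥(chevD4.posUnipotent K ⊓ twistedD4 K q) ^ 1 = q ^ (chevD4.nroots / 2) at h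
    rw [pow_one, show chevD4.nroots / 2 = 12 from rfl] at h
    rw [factsD4.tsys_U] at hz
    have h1 := congrArg Subtype.val
      (pow_card_eq_one' (x := (⟨z, Subgroup.mem_inf.2 ⟨hz, hG⟩⟩ : ↥(chevD4.posUnipotent K ⊓ twistedD4 K q))))
    simp only [SubgroupClass.coe_pow, OneMemClass.coe_one] at h1
    rwa [h] at h1
  rcases hu with hu | hu
  · exact key u (posR_le hu.1) hu.2
  · have hG : n0 S * u * (n0 S)⁻¹ ∈ twistedD4 K q := mul_mem (mul_mem (n0_mem S) hu.2) (inv_mem (n0_mem S))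
    have h := key _ (posR_le ((mono_n0 S).conj_US (fun r hr => ⟨rad_tab.2.1 r hr, pi0_tab.2.2.2.2.1 r hr⟩) hu.1)) hG
    rw [conj_pow, mul_inv_eq_one, mul_eq_left] at h
    exact h

/-- A subgroup normalised by an element without fixed points consists of commutators. -/
theorem coset_conj {G : Type*} [Group G] [Finite G] (V : Subgroup G) (c : G)
    (hn : ∀ z ∈ V, c * z * c⁻¹ ∈ V) (hc : ∀ z ∈ V, Commute z c → z = 1) :
    ∀ v ∈ V, (∃ z ∈ V, v * c = z * c * z⁻¹) ∧ ∃ z ∈ V, c * v = z * c * z⁻¹ := by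
  let f : ↥V → ↥V := fun z => ⟨z.1 * (c * z.1⁻¹ * c⁻¹), mul_mem z.2 (hn _ (inv_mem z.2))⟩
  have hf : Function.Injective f := by
    intro a b hab
    have e : a.1 * (c * a.1⁻¹ * c⁻¹) = b.1 * (c * b.1⁻¹ * c⁻¹) := congrArg Subtype.val hab
    have e' : a.1 * c * a.1⁻¹ = b.1 * c * b.1⁻¹ := by
      have := congrArg (· * c) e
      simpa [mul_assoc] using this
    have h1 : Commute (b.1⁻¹ * a.1) c := by
      show b.1⁻¹ * a.1 * c = c * (b.1⁻¹ * a.1)
      calc b.1⁻¹ * a.1 * c = b.1⁻¹ * (a.1 * c * a.1⁻¹) * a.1 := by group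
        _ = _ := by rw [e']; group
    exact Subtype.ext (inv_mul_eq_one.1 (hc _ (mul_mem (inv_mem b.2) a.2) h1)).symm
  have hs := Finite.surjective_of_injective hf
  intro v hv
  constructor
  · obtain ⟨z, hz⟩ := hs ⟨v, hv⟩
    refine ⟨z.1, z.2, ?_⟩
    have e : z.1 * (c * z.1⁻¹ * c⁻¹) = v := congrArg Subtype.val hz
    rw [← e]; group
  · obtain ⟨z, hz⟩ := hs ⟨c * v * c⁻¹, hn v hv⟩
    refine ⟨z.1, z.2, ?_⟩
    have e : z.1 * (c * z.1⁻¹ * c⁻¹) = c * v * c⁻¹ := congrArg Subtype.val hz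
    calc c * v = (c * v * c⁻¹) * c := by group
      _ = _ := by rw [← e]; group

/-- An element of the class in GL₂(q) gives a conjugate. -/
theorem class_conj {A : Matrix (Fin 2) (Fin 2) (Fq S)} (hA : SpFourThompson.InC P.A.1.trace P.A.1.det A) :
    ∃ (A' : GL (Fin 2) (Fq S)), A'.1 = A ∧ ∃ z ∈ twistedD4 K q, Lv S (P.U, A') = z * P.x * z⁻¹ := by
  have hd : A.det ≠ 0 := by rw [hA.2]; exact P.ell.2.1
  obtain ⟨A', hA'⟩ : ∃ A' : GL (Fin 2) (Fq S), A'.1 = A :=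
    ⟨Matrix.GeneralLinearGroup.mkOfDetNeZero A hd, rfl⟩
  obtain ⟨Q, hQ, hQe⟩ := exists_conj_comp2 (not_scalar P.ell hA)
  obtain ⟨R, hR, hRe⟩ := exists_conj_comp2 (not_scalar P.ell (A := P.A.1) ⟨rfl, rfl⟩)
  rw [hA.1, hA.2] at hQe
  obtain ⟨Q', hQ'⟩ : ∃ Q' : GL (Fin 2) (Fq S), Q'.1 = Q := ⟨Matrix.GeneralLinearGroup.mk'' Q hQ, rfl⟩
  obtain ⟨R', hR'⟩ : ∃ R' : GL (Fin 2) (Fq S), R'.1 = R := ⟨Matrix.GeneralLinearGroup.mk'' R hR, rfl⟩
  obtain ⟨C', hC'⟩ : ∃ C' : GL (Fin 2) (Fq S), C'.1 = comp2 P.A.1.trace P.A.1.det :=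
    ⟨Matrix.GeneralLinearGroup.mkOfDetNeZero _ (by simpa [comp2, Matrix.det_fin_two] using P.ell.2.1), rfl⟩
  have e1 : A' * Q' = Q' * C' := Units.ext (by rw [Units.val_mul, Units.val_mul, hA', hQ', hC']; exact hQe)
  have e2 : P.A * R' = R' * C' := Units.ext (by rw [Units.val_mul, Units.val_mul, hR', hC']; exact hRe)
  refine ⟨A', hA', Lv S (1, Q' * R'⁻¹), Lv_mem S _, ?_⟩
  rw [Par.x, ← map_inv, ← map_mul, ← map_mul, Prod.inv_mk, Prod.mk_mul_mk, Prod.mk_mul_mk, inv_one, one_mul,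
    mul_one]
  congr 2
  rw [eq_mul_inv_of_mul_eq e1, show C' = R'⁻¹ * P.A * R' by rw [mul_assoc, e2, inv_mul_cancel_left]]
  group

/-- The target first coordinate. -/
noncomputable def Par.tgt : Kˣ := (P.U * P.U) ^ 2 * (ιu S (P.d * P.d))⁻¹

theorem fixed_free {z : GD K} (hz : z ∈ twistedD4 K q) {u : GD K}
    (hu : u ∈ Upos (K := K) (q := q) ∨ u ∈ Uneg (K := K) (q := q)) (hc : Commute u (z * P.x * z⁻¹)) : u = 1 := by
  have hG : u ∈ twistedD4 K q := by rcases hu with hu | hu <;> exact hu.2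
  have h1 := P.cent (z⁻¹ * u * z) (mul_mem (mul_mem (inv_mem hz) hG) hz) (by
    show z⁻¹ * u * z * P.x = P.x * (z⁻¹ * u * z)
    calc z⁻¹ * u * z * P.x = z⁻¹ * (u * (z * P.x * z⁻¹)) * z := by group
      _ = _ := by rw [hc.eq]; group)
  have h2 : u ^ ((q ^ 3 - 1) * (q + 1)) = 1 := by
    rw [show u = z * (z⁻¹ * u * z) * z⁻¹ by group, conj_pow, h1, mul_one, mul_inv_cancel]
  have h3 : u ^ Nat.gcd (q ^ 12) ((q ^ 3 - 1) * (q + 1)) = 1 := pow_gcd_eq_one.2 ⟨pow_q12 (S := S) hu, h2⟩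
  rwa [(coprime_orders (S := S)).gcd_eq_one, pow_one] at h3

/-- The criterion. -/
theorem of_good {M : GL (Fin 2) (Fq S)} (hdet : Matrix.GeneralLinearGroup.det M = P.d * P.d)
    (hM : GoodS (P.d : Fq S) M.1) {v u : GD K} (hv : v ∈ Uneg (K := K) (q := q))
    (hu : u ∈ Upos (K := K) (q := q)) : Cov P (v * Lv S (P.U * P.U, M) * u) := by
  classical
  have hdet' : M.1.det = (P.d : Fq S) * P.d := by
    rw [← Matrix.GeneralLinearGroup.val_det_apply, hdet, Units.val_mul]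
  rw [P.d_val] at hdet' hM
  obtain ⟨A, B, hA, hB, hAB⟩ := exists_pair P.ell hdet' hM
  obtain ⟨A', hA', a, ha, hca⟩ := class_conj P hA
  obtain ⟨B', hB', b, hb, hcb⟩ := class_conj P hB
  have hsplit : Lv S (P.U * P.U, M) = (a * P.x * a⁻¹) * (b * P.x * b⁻¹) := by
    rw [← hca, ← hcb, ← map_mul, Prod.mk_mul_mk,
      show A' * B' = M from Units.ext (by rw [Units.val_mul, hA', hB', hAB])]
  obtain ⟨zv, hzv, hev⟩ := (coset_conj (Uneg (K := K) (q := q)) (a * P.x * a⁻¹)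
    (fun z hz => by rw [← hca]; exact Lv_conj S (Or.inr rfl) _ hz)
    (fun z hz hc => fixed_free P ha (Or.inr hz) hc) v hv).1
  obtain ⟨zu, hzu, heu⟩ := (coset_conj (Upos (K := K) (q := q)) (b * P.x * b⁻¹)
    (fun z hz => by rw [← hcb]; exact Lv_conj S (Or.inl rfl) _ hz)
    (fun z hz hc => fixed_free P hb (Or.inl hz) hc) u hu).2
  refine ⟨zv * a, mul_mem hzv.2 ha, zu * b, mul_mem hzu.2 hb, ?_⟩
  rw [hsplit, show v * (a * P.x * a⁻¹ * (b * P.x * b⁻¹)) * u =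
    (v * (a * P.x * a⁻¹)) * ((b * P.x * b⁻¹) * u) by simp only [mul_assoc], hev, heu]
  group

/-- Conjugation into the big cell. -/
theorem reach {R y v u' u : GD K} {p p' : Kˣ × GL (Fin 2) (Fq S)} {M : GL (Fin 2) (Fq S)}
    (hy : y ∈ Upos (K := K) (q := q)) (hv : v ∈ Uneg (K := K) (q := q))
    (hu' : u' ∈ Upos (K := K) (q := q)) (hu : u ∈ Upos (K := K) (q := q)) (he : y * R = v * Lv S p * u')
    (hp : Lv S (p * p') = Lv S (P.U * P.U, M)) (hdet : Matrix.GeneralLinearGroup.det M = P.d * P.d)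
    (hM : GoodS (P.d : Fq S) M.1) : Cov P (R * Lv S p' * u) := by
  refine cov_conj P hy.2 ?_
  rw [show y * (R * Lv S p' * u) * y⁻¹ =
      v * (Lv S p * Lv S p') * (((Lv S p')⁻¹ * u' * Lv S p') * u * y⁻¹) by
    simp only [← mul_assoc, he]; group, ← map_mul, hp]
  exact of_good P hdet hM hv (mul_mem (mul_mem (Lv_conj' S (Or.inl rfl) _ hu') hu) (inv_mem hy))

/-- Moving an element of the Levi subgroup to the right. -/
theorem cov_right {R : GD K} {Q p' : Kˣ × GL (Fin 2) (Fq S)}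
    (hR : R⁻¹ * Lv S Q * R ∈ Upos (K := K) (q := q))
    (h : ∀ u ∈ Upos (K := K) (q := q), Cov P (R * Lv S (p' * Q⁻¹) * u)) {u : GD K}
    (hu : u ∈ Upos (K := K) (q := q)) : Cov P (R * Lv S p' * u) := by
  refine cov_conj P (Lv_mem S Q) ?_
  rw [show Lv S Q * (R * Lv S p' * u) * (Lv S Q)⁻¹ = R * (Lv S p' * (Lv S Q)⁻¹) *
      (Lv S Q * ((Lv S p')⁻¹ * (R⁻¹ * Lv S Q * R) * Lv S p' * u) * (Lv S Q)⁻¹) by group, ← map_inv (Lv S) Q,
    ← map_mul, map_inv]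
  exact h _ (Lv_conj S (Or.inl rfl) Q (mul_mem (Lv_conj' S (Or.inl rfl) _ hR) hu))

/-- Moving an element of the Levi subgroup around the opposite representative. -/
theorem cov_twist {R : GD K} {Q Q' p' : Kˣ × GL (Fin 2) (Fq S)} (hR : R⁻¹ * Lv S Q * R = Lv S Q')
    (h : ∀ u ∈ Upos (K := K) (q := q), Cov P (R * Lv S (Q' * p' * Q⁻¹) * u)) {u : GD K}
    (hu : u ∈ Upos (K := K) (q := q)) : Cov P (R * Lv S p' * u) := by
  refine cov_conj P (Lv_mem S Q) ?_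
  rw [show Lv S Q * (R * Lv S p' * u) * (Lv S Q)⁻¹ = R * ((R⁻¹ * Lv S Q * R) * Lv S p' * (Lv S Q)⁻¹) *
      (Lv S Q * u * (Lv S Q)⁻¹) by group, hR, ← map_inv (Lv S) Q, ← map_mul, ← map_mul, map_inv]
  exact h _ (Lv_conj S (Or.inl rfl) Q hu)

/-- Cells with a free first coordinate and a free upper parameter. -/
theorem cell_of {R : GD K} (hup : ∀ e : Fq S, R⁻¹ * Lv S (1, upG e) * R ∈ Upos (K := K) (q := q))
    (hX : ∀ T : Kˣ, ∃ y ∈ Upos (K := K) (q := q), ∃ v ∈ Uneg (K := K) (q := q),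
      ∃ u' ∈ Upos (K := K) (q := q), ∃ p, tpar S p = T ∧ y * R = v * Lv S p * u')
    (p' : Kˣ × GL (Fin 2) (Fq S)) {u : GD K} (hu : u ∈ Upos (K := K) (q := q)) :
    Cov P (R * Lv S p' * u) := by
  obtain ⟨y, hy, v, hv, u', hu', p, hp, he⟩ := hX (P.tgt * (tpar S p')⁻¹)
  have ht : tpar S (p * p') = P.tgt := by rw [map_mul, hp, inv_mul_cancel_right]
  obtain ⟨a, hdet, ha⟩ := exists_norm S (U := P.U * P.U) (d := P.d) ht
  have hdetM : (scal a * (p * p').2).1.det = (P.d : Fq S) * P.d := by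
    rw [← Matrix.GeneralLinearGroup.val_det_apply, hdet, Units.val_mul]
  obtain ⟨e, hgood⟩ := shape_up P.d.ne_zero hdetM
  refine cov_right P (Q := ((1 : Kˣ), upG e)⁻¹) ?_ (fun u₁ hu₁ => ?_) hu
  · rw [map_inv, show R⁻¹ * (Lv S (1, upG e))⁻¹ * R = (R⁻¹ * Lv S (1, upG e) * R)⁻¹ by group]
    exact inv_mem (hup e)
  rw [inv_inv]
  refine reach P hy hv hu' hu₁ he (M := scal a * (p * p').2 * upG e) ?_ ?_ ?_
  · rw [← mul_assoc, show p * p' * ((1 : Kˣ), upG e) = ((p * p').1, (p * p').2 * upG e) by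
      ext <;> simp, ha, mul_assoc]
  · rw [map_mul, hdet, show Matrix.GeneralLinearGroup.det (upG e) = 1 from Units.ext (upS e).2, mul_one]
  · rw [Units.val_mul, upG_val]
    exact hgood

/-! ### The short root SL₂ -/

/-- A diagonal element. -/
def dS (w : Kˣ) : Matrix.SpecialLinearGroup (Fin 2) K :=
  ⟨!![(w : K), 0; 0, ((w⁻¹ : Kˣ) : K)], by simp [Matrix.det_fin_two]⟩

theorem up_ant (s : Kˣ) : upS (s : K) * antS = loS ((s⁻¹ : Kˣ) : K) * dS (-s) * upS (-((s⁻¹ : Kˣ) : K)) := by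
  ext i j
  simp only [RankOneRel.entries_mul]
  fin_cases i <;> fin_cases j <;> simp [upS, loS, antS, dS]

theorem phiN_diag (i : Fin chevD4.rank) (w : Kˣ) :
    AltSec.D4.phiN K i.val i.isLt (dS w) = torus chevD4 K (Pi.mulSingle i w) := by
  show RankOneRel.toFun _ _ (dS w) = _
  have h10 : (dS w).1 1 0 = 0 := rfl
  rw [RankOneRel.toFun, if_pos h10, show (dS w).1 0 1 = 0 from rfl, zero_div, factsD4.xg_zero, mul_one,
    show (dS w).1 0 0 = (w : K) from rfl, factsD4.torus_single, factsD4.hg_eq, RankOneRel.hh, factsD4.ng_eq,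
    factsD4.ng_eq]
  rfl

theorem map_dS (w : Kˣ) : Matrix.SpecialLinearGroup.map S.T.fr (dS w) = dS (w ^ q) := by
  ext i j
  rw [Matrix.SpecialLinearGroup.map_apply_coe]
  fin_cases i <;> fin_cases j <;> simp [dS, S.hfr, zero_pow (show q ≠ 0 by have := S.hq; omega)]

theorem phiB_diag (w : Kˣ) : AltSec.D4.phiB S (dS w) = tt S w 1 := by
  rw [AltSec.D4.phiB_apply, map_dS, map_dS]
  have h0 := phiN_diag (0 : Fin chevD4.rank) w
  have h2 := phiN_diag (2 : Fin chevD4.rank) (w ^ q)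
  have h3 := phiN_diag (3 : Fin chevD4.rank) ((w ^ q) ^ q)
  rw [tt, show AltSec.D4.phiN K 0 (by decide +kernel) (dS w) = _ from h0,
    show AltSec.D4.phiN K 2 (by decide +kernel) (dS (w ^ q)) = _ from h2,
    show AltSec.D4.phiN K 3 (by decide +kernel) (dS ((w ^ q) ^ q)) = _ from h3, ← map_mul, ← map_mul]
  congr 1
  funext j
  match j with
  | ⟨0, _⟩ => show w * (1 * 1) = w; simp
  | ⟨1, _⟩ => show (1 : Kˣ) * (1 * 1) = 1; simp
  | ⟨2, _⟩ => show (1 : Kˣ) * (w ^ q * 1) = w ^ q; simp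
  | ⟨3, _⟩ => show (1 : Kˣ) * (1 * (w ^ q) ^ q) = (w ^ q) ^ q; simp

/-- The image of a root element under the elements of the two nodes. -/
def piB (r : ℕ) : ℕ := actR chevD4 [0, 2, 3] r

/-- The permutation of the reflection of intermediate distance. -/
def pi2 (r : ℕ) : ℕ := piB (actR chevD4 [1] (piB r))

theorem cell_tab : (∀ r < 24, piB r < 24 ∧ piB (piB r) = r) ∧ (∀ r < 24, pi2 r < 24 ∧ pi2 (pi2 r) = r) ∧
    piB 14 ∈ posR ∧ pi2 14 ∈ posR ∧ (∀ r ∈ [18, 13, 12], r ∈ posR) ∧ (∀ r ∈ [5, 10, 11], r ∈ negR) ∧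
    (∀ r ∈ [5, 10, 11], r < 24 ∧ pi2 r ∈ posR) ∧
    (∀ r ∈ [18, 13, 12], r < 24 ∧ actR chevD4 [1] r ∈ posR) := by decide +kernel

/-- The roots reached by the negative short root subgroup. -/
def Lz : List ℕ := 9 :: [5, 10, 11].map (actR chevD4 [1])

theorem Lz_tab : (∀ r ∈ [5, 10, 11], r < 24 ∧ actR chevD4 [1] r ∈ Lz) ∧ (∀ s ∈ Lz, s ∈ List.range 12) ∧
    (∀ r ∈ [18, 13, 12], r < 24 ∧ ∀ s ∈ Lz, s < 24 ∧ s ≠ chevD4.neg r ∧
      (s ≠ r → ∀ c ∈ chevD4.commTerms r s, c.1 ∈ Lz)) ∧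
    (∀ r < 24, actR chevD4 [1] r < 24 ∧ actR chevD4 [1] (actR chevD4 [1] r) = r) := by decide +kernel

theorem mono_B : Mono (nB S) piB := by rw [nB_eq]; exact mono_nw _

theorem mono_A : Mono (nA K) (actR chevD4 [1]) := by rw [nA_eq]; exact mono_nw _

/-- The representative of intermediate distance. -/
noncomputable def nR (S : Setup K q) : GD K := nB S * nA K * nB S

theorem mono_R : Mono (nR S) pi2 := (mono_B.mul mono_A).mul mono_B

theorem bUp_mem (s : K) : AltSec.D4.phiB S (upS s) ∈ Upos (K := K) (q := q) := by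
  rw [AltSec.D4.phiB_up]
  exact Subgroup.mem_inf.2 ⟨CommSys.US_mono _ cell_tab.2.2.2.2.1
    (CommSys.prodOver_mem (factsD4.sys K).toCommSys _ _), S.B_mem (Or.inl rfl) s⟩

theorem bLo_mem (s : K) : AltSec.D4.phiB S (loS s) ∈ Uneg (K := K) (q := q) := by
  rw [AltSec.D4.phiB_lo]
  exact Subgroup.mem_inf.2 ⟨CommSys.US_mono _ cell_tab.2.2.2.2.2.1
    (CommSys.prodOver_mem (factsD4.sys K).toCommSys _ _), S.B_mem (Or.inr rfl) s⟩

theorem bUp_US (s : K) : AltSec.D4.phiB S (upS s) ∈ (factsD4.tsys K).US [18, 13, 12] := by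
  rw [AltSec.D4.phiB_up]; exact CommSys.prodOver_mem _ _ _

theorem bLo_US (s : K) : AltSec.D4.phiB S (loS s) ∈ (factsD4.tsys K).US [5, 10, 11] := by
  rw [AltSec.D4.phiB_lo]; exact CommSys.prodOver_mem _ _ _

theorem up_root_mem {R : GD K} {π : ℕ → ℕ} (hR : Mono R⁻¹ π) (h : π 14 ∈ posR)
    (hG : R ∈ twistedD4 K q) (e : Fq S) : R⁻¹ * Lv S (1, upG e) * R ∈ Upos (K := K) (q := q) := by
  refine Subgroup.mem_inf.2 ⟨?_, mul_mem (mul_mem (inv_mem hG) (Lv_mem S _)) hG⟩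
  have := hR.conj_US (L := [14]) (fun r hr => by rw [List.mem_singleton] at hr; subst hr; exact ⟨by norm_num, h⟩)
    (CommSys.x_mem_US (factsD4.tsys K).toRootSys.toCommSys (List.mem_singleton_self 14) (e : K))
  rw [inv_inv, factsD4.tsys_x] at this
  rwa [Lv_up]

theorem cell_b (p' : Kˣ × GL (Fin 2) (Fq S)) {u : GD K} (hu : u ∈ Upos (K := K) (q := q)) :
    Cov P (nB S * Lv S p' * u) := by
  refine cell_of P (fun e => up_root_mem ((mono_B (S := S)).inv cell_tab.1) cell_tab.2.2.1 (nB_mem S) e) (fun T => ?_) p' hu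
  obtain ⟨pt, -, -, ht, hpt⟩ := exists_torus S (t := T) (m := 1) (one_pow q)
  refine ⟨_, (bUp_mem (S := S)) ((-T : Kˣ) : K), _, (bLo_mem (S := S)) (((-T)⁻¹ : Kˣ) : K), _, (bUp_mem (S := S)) (-(((-T)⁻¹ : Kˣ) : K)), pt, ht, ?_⟩
  rw [nB, ← map_mul, up_ant (-T), neg_neg, map_mul, map_mul, phiB_diag, hpt]

theorem ant_lo (s : K) : (antS : Matrix.SpecialLinearGroup (Fin 2) K) * loS s = upS (-s) * antS := by
  ext i j
  simp only [RankOneRel.entries_mul]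
  fin_cases i <;> fin_cases j <;> simp [upS, loS, antS]

theorem cell_bab (p' : Kˣ × GL (Fin 2) (Fq S)) {u : GD K} (hu : u ∈ Upos (K := K) (q := q)) :
    Cov P (nR S * Lv S p' * u) := by
  have hG : nR S ∈ twistedD4 K q := mul_mem (mul_mem (nB_mem S) (nA_mem S)) (nB_mem S)
  refine cell_of P (fun e => up_root_mem ((mono_R (S := S)).inv cell_tab.2.1) cell_tab.2.2.2.1 hG e) (fun T => ?_) p' hu
  obtain ⟨pm, -, -, htm, hpm⟩ := exists_torus S (t := (-1 : Kˣ)) (m := 1) (one_pow q)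
  obtain ⟨ps, -, -, hts, hps⟩ := exists_torus S (t := -T) (m := 1) (one_pow q)
  -- the parameters
  obtain ⟨lo', hlo'⟩ : ∃ z, z = AltSec.D4.phiB S (loS ((T⁻¹ : Kˣ) : K)) := ⟨_, rfl⟩
  obtain ⟨upm, hupm⟩ : ∃ z, z = AltSec.D4.phiB S (upS (-1 : K)) := ⟨_, rfl⟩
  have hz : upm * (nA K * lo' * (nA K)⁻¹) * upm⁻¹ ∈ (factsD4.tsys K).US (List.range 12) := by
    obtain ⟨h1, h2, h3, -⟩ := Lz_tab
    refine CommSys.US_mono _ h2 ?_
    have hn : upm ∈ nrmz (K := K) Lz := by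
      have hle : (factsD4.tsys K).US [18, 13, 12] ≤ nrmz (K := K) Lz :=
        CommSys.US_le _ fun r hr t => CommSys.x_normalizes _ (h3 r hr).1 (h3 r hr).2 t
      exact hle (hupm ▸ (bUp_US (S := S)) _)
    exact (Subgroup.mem_normalizer_iff.1 hn _).1 (mono_A.conj_US h1 (hlo' ▸ (bLo_US (S := S)) _))
  have hzG : upm * (nA K * lo' * (nA K)⁻¹) * upm⁻¹ ∈ twistedD4 K q :=
    mul_mem (mul_mem (hupm ▸ (bUp_mem (S := S) _).2)
      (mul_mem (mul_mem (nA_mem S) (hlo' ▸ (bLo_mem (S := S) _).2)) (inv_mem (nA_mem S))))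
      (inv_mem (hupm ▸ (bUp_mem (S := S) _).2))
  obtain ⟨e, z', hz', hze⟩ := split_neg S hz hzG
  have hw : (nA K)⁻¹ * upm * nA K ∈ Upos (K := K) (q := q) := by
    refine Subgroup.mem_inf.2
      ⟨?_, mul_mem (mul_mem (inv_mem (nA_mem S)) (hupm ▸ (bUp_mem (S := S) _).2)) (nA_mem S)⟩
    have := (mono_A.inv (K := K) Lz_tab.2.2.2).conj_US cell_tab.2.2.2.2.2.2.2 (hupm ▸ bUp_US (S := S) _)
    rwa [inv_inv] at this
  have hy : AltSec.D4.phiB S (upS 1) * (nR S * AltSec.D4.phiB S (loS ((-T : Kˣ) : K)) * (nR S)⁻¹) ∈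
      Upos (K := K) (q := q) := by
    refine mul_mem ((bUp_mem (S := S)) _) (Subgroup.mem_inf.2 ⟨?_, mul_mem (mul_mem hG ((bLo_mem (S := S)) _).2) (inv_mem hG)⟩)
    exact (mono_R (S := S)).conj_US cell_tab.2.2.2.2.2.2.1 ((bLo_US (S := S)) _)
  refine ⟨_, hy, AltSec.D4.phiB S (loS 1) * (Lv S pm * z' * (Lv S pm)⁻¹),
    mul_mem ((bLo_mem (S := S)) _) (Lv_conj S (Or.inr rfl) pm hz'),
    ((Lv S ps)⁻¹ * ((nA K)⁻¹ * upm * nA K) * Lv S ps) * AltSec.D4.phiB S (upS (-((T⁻¹ : Kˣ) : K))),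
    mul_mem (Lv_conj' S (Or.inl rfl) ps hw) ((bUp_mem (S := S)) _),
    pm * ((1 : Kˣ), loG e) * ((1 : Kˣ), antG (Fq S)) * ps, ?_, ?_⟩
  · rw [map_mul, map_mul, map_mul, htm, hts, loG, antG, (Lv_SL S _).2, (Lv_SL S _).2]
    simp
  have eB : nB S * AltSec.D4.phiB S (loS ((-T : Kˣ) : K)) =
      lo' * Lv S ps * AltSec.D4.phiB S (upS (-((T⁻¹ : Kˣ) : K))) := by
    rw [hlo', hps, nB, ← map_mul, ant_lo, Units.val_neg, neg_neg, up_ant T, map_mul, map_mul, phiB_diag]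
  have e1 : AltSec.D4.phiB S (upS (1 : K)) * nB S = AltSec.D4.phiB S (loS 1) * Lv S pm * upm := by
    have := up_ant (1 : Kˣ)
    rw [inv_one, Units.val_one] at this
    rw [nB, ← map_mul, this, map_mul, map_mul, phiB_diag, hpm, hupm]
  have e2 : upm * nA K * lo' = z' * Lv S (1, loG e) * nA K * ((nA K)⁻¹ * upm * nA K) := by
    rw [← hze]; group
  simp only [map_mul, Lv_ant, show phi K antS = nA K from rfl]
  calc AltSec.D4.phiB S (upS 1) * (nR S * AltSec.D4.phiB S (loS ((-T : Kˣ) : K)) * (nR S)⁻¹) * nR S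
      = AltSec.D4.phiB S (upS 1) * nB S * nA K * (nB S * AltSec.D4.phiB S (loS ((-T : Kˣ) : K))) := by
        simp only [nR]; group
    _ = AltSec.D4.phiB S (loS 1) * Lv S pm * (upm * nA K * lo') * Lv S ps *
        AltSec.D4.phiB S (upS (-((T⁻¹ : Kˣ) : K))) := by rw [e1, eB]; simp only [mul_assoc]
    _ = _ := by rw [e2]; group

end Cfsg.Agent.Small.DFourThompson
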