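import Cfsg.Agent.Lib.Small.DFourThompson.Opp
import Cfsg.Agent.Lib.Lie.TwistD4S

/-!
Every non-trivial element of the triality group of type D4 is a product of two conjugates of a semisimple
element.
-/

set_option autoImplicit false
set_option maxRecDepth 4000
set_option linter.unusedSectionVars false
set_option linter.unusedSimpArgs false

namespace Cfsg.Agent.Small.DFourThompson

open Cfsg.Lie Matrix Cfsg.Agent.Lie Cfsg.Agent.Small.D4Torus Cfsg.Agent.Small.SpFourThompson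
open Cfsg.Agent.Lie.D4 (Setup neZero_rank Os ws okPi_ws)
open Cfsg.Agent.Lie.D4.Setup (cB)
open scoped MatrixGroups

local notation "GD" => GL chevD4.Idx

variable {K : Type*} [Field K] [Fintype K] {q : ℕ} (S : Setup K q)

/-- The parabolic subgroup. -/
def Psub : Subgroup (GD K) where
  carrier := {g | ∃ p, ∃ u ∈ Upos (K := K) (q := q), g = Lv S p * u}
  one_mem' := ⟨1, 1, one_mem _, by rw [map_one, one_mul]⟩
  mul_mem' := by
    rintro _ _ ⟨p, u, hu, rfl⟩ ⟨p', u', hu', rfl⟩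
    exact ⟨p * p', (Lv S p')⁻¹ * u * Lv S p' * u', mul_mem (Lv_conj' S (Or.inl rfl) p' hu) hu', by
      rw [map_mul]; group⟩
  inv_mem' := by
    rintro _ ⟨p, u, hu, rfl⟩
    exact ⟨p⁻¹, Lv S p * u⁻¹ * (Lv S p)⁻¹, Lv_conj S (Or.inl rfl) p (inv_mem hu), by rw [map_inv]; group⟩

theorem Lv_P (p : Kˣ × GL (Fin 2) (Fq S)) : Lv S p ∈ Psub S := ⟨p, 1, one_mem _, by rw [mul_one]⟩

theorem Upos_P {u : GD K} (hu : u ∈ Upos (K := K) (q := q)) : u ∈ Psub S :=
  ⟨1, u, hu, by rw [map_one, one_mul]⟩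

theorem P_le : Psub S ≤ twistedD4 K q := by
  rintro _ ⟨p, u, hu, rfl⟩
  exact mul_mem (Lv_mem S p) hu.2

theorem nA_P : nA K ∈ Psub S := by
  rw [nA, ← Lv_ant S]; exact Lv_P S _

theorem orb_nw : (factsD4.tsys K).nw (orbWord chevD4 Os [0]) = nA K ∧
    (factsD4.tsys K).nw (orbWord chevD4 Os [1]) = nB S := by
  constructor
  · rw [nA_eq]; congr 1
  · rw [nB_eq]; congr 1

/-- The words of the twisted Weyl group evaluated. -/
theorem word_cases (b : Fin ws.length) : ∃ R, (R = 1 ∨ R = nB S ∨ R = nR S ∨ R = n0 S) ∧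
    ∃ l ∈ Psub S, ∃ r ∈ Psub S, (factsD4.tsys K).nw (orbN b) = l * R * r := by
  obtain ⟨hA, hB⟩ := orb_nw S
  have h1 := one_mem (Psub S)
  have ha := nA_P S
  have e : ∀ (k : ℕ) (w : List ℕ), (factsD4.tsys K).nw (orbWord chevD4 Os (k :: w)) =
      (factsD4.tsys K).nw (orbWord chevD4 Os [k]) * (factsD4.tsys K).nw (orbWord chevD4 Os w) := fun k w => by
    rw [← TorusSys.nw_append]
    congr 1
    simp [orbWord]
  have e0 : (factsD4.tsys K).nw (orbWord chevD4 Os []) = 1 := TorusSys.nw_nil _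
  have ev : ∀ k ∈ [0, 1], ∀ w : List ℕ, (factsD4.tsys K).nw (orbWord chevD4 Os (k :: w)) =
      (if k = 0 then nA K else nB S) * (factsD4.tsys K).nw (orbWord chevD4 Os w) := by
    intro k hk w
    rw [e]
    simp only [List.mem_cons, List.not_mem_nil, or_false] at hk
    rcases hk with rfl | rfl
    · rw [hA, if_pos rfl]
    · rw [hB, if_neg one_ne_zero]
  obtain ⟨h, hh, hhG, he⟩ := rel_nD (S := S)
  obtain ⟨ph, hph⟩ := mem_range_of_H hh hhG
  have hhP : h ∈ Psub S := hph ▸ Lv_P S ph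
  have hb : b.val < 12 := b.isLt
  have hget : ∃ w, ws[b.val]? = some w ∧ orbN b = orbWord chevD4 Os w :=
    ⟨ws.get b, List.getElem?_eq_getElem b.isLt, rfl⟩
  obtain ⟨w, hw, hwe⟩ := hget
  rw [hwe]
  interval_cases b.val <;> simp only [ws, List.getElem?_cons_zero, List.getElem?_cons_succ, Option.some.injEq] at hw <;>
    subst hw <;> simp only [ev 0 (by simp), ev 1 (by simp), e0, if_pos, if_neg one_ne_zero, mul_one]
  · exact ⟨1, Or.inl rfl, 1, h1, 1, h1, by simp⟩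
  · exact ⟨1, Or.inl rfl, nA K, ha, 1, h1, by simp⟩
  · exact ⟨_, Or.inr (Or.inl rfl), 1, h1, 1, h1, by simp⟩
  · exact ⟨_, Or.inr (Or.inl rfl), nA K, ha, 1, h1, by simp⟩
  · exact ⟨_, Or.inr (Or.inl rfl), 1, h1, nA K, ha, by simp⟩
  · exact ⟨_, Or.inr (Or.inl rfl), nA K, ha, nA K, ha, by simp only [mul_assoc]⟩
  · exact ⟨_, Or.inr (Or.inr (Or.inl rfl)), 1, h1, 1, h1, by simp [nR, mul_assoc]⟩
  · exact ⟨_, Or.inr (Or.inr (Or.inl rfl)), nA K, ha, 1, h1, by simp [nR, mul_assoc]⟩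
  · exact ⟨_, Or.inr (Or.inr (Or.inl rfl)), 1, h1, nA K, ha, by simp [nR, mul_assoc]⟩
  · exact ⟨_, Or.inr (Or.inr (Or.inl rfl)), nA K, ha, nA K, ha, by simp [nR, mul_assoc]⟩
  · exact ⟨_, Or.inr (Or.inr (Or.inr rfl)), (nA K)⁻¹, inv_mem ha, h⁻¹, inv_mem hhP, by rw [← he]; group⟩
  · exact ⟨_, Or.inr (Or.inr (Or.inr rfl)), 1, h1, h⁻¹, inv_mem hhP, by rw [← he]; group⟩

/-- The decomposition into double cosets of the parabolic subgroup. -/
theorem cells {g : GD K} (hg : g ∈ twistedD4 K q) : ∃ R, (R = 1 ∨ R = nB S ∨ R = nR S ∨ R = n0 S) ∧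
    ∃ l ∈ Psub S, ∃ r ∈ Psub S, g = l * R * r := by
  obtain ⟨w, hw, u, hu, huG, a, ha, haG, v, hv, hvG, he⟩ := S.data.decomp (g := g) hg
  obtain ⟨b, hb⟩ : ∃ b : Fin ws.length, factsD4.refSys.pr (orbN b) = w := by
    obtain ⟨b, hb⟩ := (S.data.piMap_bij okPi_ws).2 ⟨w, hw⟩
    exact ⟨b, congrArg Subtype.val hb⟩
  obtain ⟨c, hc, hce⟩ := (factsD4.tsys K).nw_eq (ω := orbN b) (w := w) hb
  have hnG : (factsD4.tsys K).nw (orbN b) ∈ twistedD4 K q := nwOrb_mem S _
  have hP : ∀ z ∈ (factsD4.tsys K).U, z ∈ twistedD4 K q → z ∈ Psub S := fun z hz hzG => by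
    obtain ⟨e, u', hu', he'⟩ := split_pos S hz hzG
    exact ⟨_, u', hu', he'⟩
  have hac : a * (factsD4.tsys K).nW w * ((factsD4.tsys K).nw (orbN b))⁻¹ = a * c⁻¹ := by rw [hce]; group
  have hacP : a * c⁻¹ ∈ Psub S := by
    obtain ⟨p, hp⟩ := mem_range_of_H (S := S) (mul_mem ha (inv_mem hc)) (hac ▸ mul_mem haG (inv_mem hnG))
    exact hp ▸ Lv_P S p
  have hv' : v ∈ (factsD4.tsys K).U :=
    CommSys.US_mono _ (fun r hr => Facts.mem_posL.2 ((TorusSys.closed_invList w).mem_pos r hr)) hv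
  obtain ⟨R, hR, l, hl, r, hr, hn⟩ := word_cases S b
  refine ⟨R, hR, u * (a * c⁻¹) * l, mul_mem (mul_mem (hP u hu huG) hacP) hl, r * v,
    mul_mem hr (hP v hv' hvG), ?_⟩
  rw [he, show a * (factsD4.tsys K).nW w = a * c⁻¹ * (factsD4.tsys K).nw (orbN b) by rw [hce]; group, hn]
  group

theorem nB_notMem : nB S ∉ Psub S := by
  rintro ⟨p, u, hu, he⟩
  have hn : nB S ∈ nrmz (K := K) posR := by
    rw [he]
    refine mul_mem (Lv_nrmz S (Or.inl rfl) p) ?_
    exact Subgroup.le_normalizer hu.1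
  obtain ⟨-, e, he1, hx⟩ := mono_B (S := S) 18 (by norm_num)
  have h5 : factsD4.xg 5 (-1 : K) ∈ (factsD4.tsys K).US posR := by
    have := (Subgroup.mem_normalizer_iff.1 hn (factsD4.xg 18 (-e))).1 (by
      rw [← factsD4.tsys_x]; exact CommSys.x_mem_US _ (by decide +kernel) _)
    rwa [hx, show piB 18 = 5 by decide +kernel, mul_neg, he1] at this
  have h18 : ∀ t : K, factsD4.xg 18 t ∈ (factsD4.tsys K).U := fun t =>
    (factsD4.tsys K).x_mem_U (by decide +kernel) (by decide +kernel) t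
  have hB : (factsD4.tsys K).nS (0 : Fin chevD4.rank) ∈ (factsD4.tsys K).B := by
    obtain ⟨s0, -, -, n0', -⟩ := AltSec.D4.nodes
    refine (factsD4.tsys K).U_le_B ?_
    rw [factsD4.tsys_nS, factsD4.ng_eq, show chevD4.simple (0 : Fin chevD4.rank).val = 18 from s0, n0', inv_one]
    exact mul_mem (mul_mem (h18 1) (posR_le h5)) (h18 1)
  obtain ⟨a, ha, he'⟩ := (factsD4.tsys K).nw_eq (ω := [(0 : Fin chevD4.rank)]) (w := factsD4.wS 0)
    (RefSystem.pr_singleton _ _)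
  rw [TorusSys.nw_singleton] at he'
  have hw : (factsD4.tsys K).nW (factsD4.wS 0) ∈ (factsD4.tsys K).B := by
    have := mul_mem (inv_mem ((factsD4.tsys K).H_le_B ha)) hB
    rwa [he', inv_mul_cancel_left] at this
  have h1 : factsD4.wS 0 = 1 := factsD4.hsep _ hw
  have h2 := congrArg (fun w : factsD4.weyl => (w • (⟨18, by decide +kernel⟩ : Fin chevD4.nroots)).val) h1
  simp only [factsD4.wS_smul, one_smul] at h2
  have h3 : ¬ chevD4.reflectRoot (0 : Fin chevD4.rank).val 18 = 18 := by decide +kernel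
  exact h3 h2

theorem exists_moved {g : GD K} (hg : g ∈ twistedD4 K q) (h1 : g ≠ 1) :
    ∃ z ∈ twistedD4 K q, z * g * z⁻¹ ∉ Psub S := by
  by_contra h
  simp only [not_exists, not_and, not_not] at h
  have hsimp := S.simple.1
  let N : Subgroup ↥(twistedD4 K q) := Subgroup.normalClosure {⟨g, hg⟩}
  have hle : N ≤ (Psub S).subgroupOf (twistedD4 K q) := by
    refine (Subgroup.closure_le _).2 fun x hx => ?_
    rw [Group.mem_conjugatesOfSet_iff] at hx
    obtain ⟨a, ha, hc⟩ := hx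
    rw [Set.mem_singleton_iff] at ha
    subst ha
    obtain ⟨c, rfl⟩ := isConj_iff.1 hc
    exact h c.1 c.2
  have hmem : (⟨g, hg⟩ : ↥(twistedD4 K q)) ∈ N := Subgroup.subset_normalClosure (Set.mem_singleton _)
  rcases IsSimpleGroup.eq_bot_or_eq_top_of_normal N Subgroup.normalClosure_normal with hN | hN
  · rw [hN, Subgroup.mem_bot] at hmem
    exact h1 (congrArg Subtype.val hmem)
  · refine nB_notMem S ?_
    exact hle (hN ▸ Subgroup.mem_top (⟨nB S, nB_mem S⟩ : ↥(twistedD4 K q)))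

/-- Every non-trivial element is covered. -/
theorem cov_all (P : Par S) {g : GD K} (hg : g ∈ twistedD4 K q) (h1 : g ≠ 1) : Cov P g := by
  obtain ⟨z, hz, hzP⟩ := exists_moved S hg h1
  refine cov_conj P hz ?_
  obtain ⟨R, hR, l, hl, r, hr, he⟩ := cells S (mul_mem (mul_mem hz hg) (inv_mem hz))
  rcases hR with rfl | hR
  · exact absurd (he ▸ mul_mem (mul_mem hl (one_mem _)) hr) hzP
  obtain ⟨p, u, hu, hrl⟩ := mul_mem hr hl
  have e : l⁻¹ * (z * g * z⁻¹) * l⁻¹⁻¹ = R * Lv S p * u := by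
    rw [he, inv_inv, mul_assoc R, ← hrl]; group
  refine cov_conj P (inv_mem (P_le S hl)) ?_
  rw [e]
  rcases hR with rfl | rfl | rfl
  · exact cell_b P p hu
  · exact cell_bab P p hu
  · exact cell_opp P p hu

include S in
/-- The main statement. -/
theorem exists_cover (p : ℕ) [hp : Fact p.Prime] (hpq : p ∣ q) :
    ∃ x ∈ twistedD4 K q, ¬ p ∣ orderOf x ∧ ∀ g ∈ twistedD4 K q, g ≠ 1 →
      ∃ u ∈ twistedD4 K q, ∃ v ∈ twistedD4 K q, g = u * x * u⁻¹ * (v * x * v⁻¹) := by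
  obtain ⟨U, A, hell, hord, hcent⟩ := exists_x S
  refine ⟨Lv S (U, A), Lv_mem S _, fun hdvd => ?_, fun g hg h1 => cov_all S ⟨U, A, hell, hcent⟩ hg h1⟩
  rw [hord] at hdvd
  have h := Nat.dvd_gcd (hpq.trans (dvd_pow_self q (show 12 ≠ 0 by norm_num))) hdvd
  rw [(coprime_orders (S := S)).gcd_eq_one] at h
  exact hp.out.one_lt.ne' (Nat.dvd_one.1 h)

end Cfsg.Agent.Small.DFourThompson
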