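import Cfsg.Agent.Lib.Small.DFourThompson.Lin
import Cfsg.Agent.Lib.Small.D4Torus.Two
import Cfsg.Agent.Lib.Small.AltSec.D4.Pair

/-!
The Levi subgroup of the long root node of the triality groups of type D4 as an image of K* × GL₂(q), and the
element generating the cyclic torus of order (q³ − 1)(q + 1).
-/

set_option autoImplicit false
set_option maxRecDepth 4000
set_option linter.unusedSectionVars false
set_option linter.unusedSimpArgs false

namespace Cfsg.Agent.Small.DFourThompson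

open Cfsg.Lie Matrix Cfsg.Agent.Lie Cfsg.Agent.Small.D4Torus Cfsg.Agent.Small.SpFourThompson
open Cfsg.Agent.Lie.D4 (Setup neZero_rank)
open scoped MatrixGroups

local notation "GD" => GL chevD4.Idx

variable {K : Type*} [Field K] [Fintype K] {q : ℕ} (S : Setup K q)

/-- The subfield with q elements. -/
def Fq : Subfield K := S.T.fr.eqLocusField (RingHom.id K)

theorem mem_Fq {x : K} : x ∈ Fq S ↔ x ^ q = x := by
  show S.T.fr x = x ↔ _
  rw [S.hfr]

theorem pow_val (x : Fq S) : (x : K) ^ q = x := (mem_Fq S).1 x.2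

noncomputable instance : Fintype (Fq S) := Fintype.ofFinite _

/-- The units of the subfield inside K. -/
noncomputable def ιu : (Fq S)ˣ →* Kˣ := Units.map (Fq S).subtype.toMonoidHom

theorem ιu_val (a : (Fq S)ˣ) : (ιu S a : K) = ((a : Fq S) : K) := rfl

theorem ιu_fix (a : (Fq S)ˣ) : ιu S a ^ q = ιu S a := by
  ext1
  rw [Units.val_pow_eq_pow_val, ιu_val]
  exact pow_val S _

theorem exists_ιu {a : Kˣ} (ha : a ^ q = a) : ∃ b, ιu S b = a := by
  have h : (a : K) ∈ Fq S := (mem_Fq S).2 (by rw [← Units.val_pow_eq_pow_val, ha])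
  exact ⟨Units.mk0 (⟨(a : K), h⟩ : Fq S) (fun e => a.ne_zero (congrArg Subtype.val e)), Units.ext rfl⟩

/-- The embedding of GL₂(q). -/
noncomputable def gmap : GL (Fin 2) (Fq S) →* GL (Fin 2) K :=
  Matrix.GeneralLinearGroup.map (n := Fin 2) (Fq S).subtype

theorem gmap_val (A : GL (Fin 2) (Fq S)) (i j : Fin 2) : (gmap S A).1 i j = ((A.1 i j : Fq S) : K) := rfl

theorem gmap_mem (A : GL (Fin 2) (Fq S)) : gmap S A ∈ glk S :=
  (mem_glk S).2 fun i j => by rw [gmap_val]; exact pow_val S _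

theorem gmap_injective : Function.Injective (gmap S) := by
  intro A B h
  refine Units.ext (Matrix.ext fun i j => Subtype.ext ?_)
  rw [← gmap_val, ← gmap_val, h]

theorem exists_gmap {A : GL (Fin 2) K} (hA : A ∈ glk S) : ∃ B, gmap S B = A := by
  have h := (mem_glk S).1 hA
  let M : Matrix (Fin 2) (Fin 2) (Fq S) := fun i j => ⟨A.1 i j, (mem_Fq S).2 (h i j)⟩
  have hd : M.det ≠ 0 := fun e => by
    have h1 : (Fq S).subtype M.det = 0 := by rw [e, map_zero]
    rw [RingHom.map_det] at h1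
    have h2 := (Matrix.GeneralLinearGroup.det A).ne_zero
    rw [Matrix.GeneralLinearGroup.val_det_apply] at h2
    exact h2 h1
  exact ⟨Matrix.GeneralLinearGroup.mkOfDetNeZero M hd, Units.ext (Matrix.ext fun i j => rfl)⟩

theorem gmap_det (A : GL (Fin 2) (Fq S)) :
    Matrix.GeneralLinearGroup.det (gmap S A) = ιu S (Matrix.GeneralLinearGroup.det A) := by
  ext1
  rw [Matrix.GeneralLinearGroup.val_det_apply, ιu_val, Matrix.GeneralLinearGroup.val_det_apply]
  exact (RingHom.map_det (Fq S).subtype A.1).symm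

theorem scal_gmap (a : (Fq S)ˣ) : gmap S (scal a) = scal (ιu S a) := by
  refine Units.ext (Matrix.ext fun i j => ?_)
  rw [gmap_val, scal_val, scal_val]
  fin_cases i <;> fin_cases j <;> simp [ιu_val]

/-- The parametrisation of the Levi subgroup. -/
noncomputable def Lv : Kˣ × GL (Fin 2) (Fq S) →* GD K :=
  (zz S).noncommCoprod (Phi.comp (gmap S)) fun u A => zz_comm S u (gmap S A)

theorem Lv_apply (u : Kˣ) (A : GL (Fin 2) (Fq S)) : Lv S (u, A) = zz S u * Phi (gmap S A) := rfl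

theorem Lv_mem (p : Kˣ × GL (Fin 2) (Fq S)) : Lv S p ∈ twistedD4 K q :=
  mul_mem (zz_mem S p.1) (Phi_mem S (gmap_mem S p.2))

theorem Lv_inj_one {A B : GL (Fin 2) (Fq S)} (h : Lv S (1, A) = Lv S (1, B)) : A = B := by
  have h1 : Lv S ((1 : Kˣ), A⁻¹ * B) = 1 := by
    rw [show ((1 : Kˣ), A⁻¹ * B) = ((1 : Kˣ), A)⁻¹ * (1, B) by simp, map_mul, map_inv, h, inv_mul_cancel]
  have h2 := (kernel S (gmap_mem S _) h1).1
  rw [map_one] at h2
  exact inv_mul_eq_one.1 (gmap_injective S (h2.trans (map_one (gmap S)).symm))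

/-- Scalars may be moved between the factors. -/
theorem Lv_shift (a : (Fq S)ˣ) (u : Kˣ) (A : GL (Fin 2) (Fq S)) :
    Lv S (u, A) = Lv S (ιu S a * u, scal a * A) := by
  rw [show (ιu S a * u, scal a * A) = (ιu S a, scal a) * (u, A) from rfl, map_mul]
  rw [show Lv S (ιu S a, scal a) = 1 by
    rw [Lv_apply, scal_gmap, Phi_scal S (ιu_fix S a), map_inv, mul_inv_cancel], one_mul]

theorem scal_comm {R : Type*} [Field R] (a : Rˣ) (A : GL (Fin 2) R) : scal a * A = A * scal a := by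
  refine Units.ext ?_
  show Matrix.scalar (Fin 2) (a : R) * A.1 = A.1 * Matrix.scalar (Fin 2) (a : R)
  exact Matrix.scalar_commute (a : R) (fun r => Commute.all _ r) A.1

/-- The character to K*. -/
noncomputable def tpar : Kˣ × GL (Fin 2) (Fq S) →* Kˣ where
  toFun p := p.1 ^ 2 * (ιu S (Matrix.GeneralLinearGroup.det p.2))⁻¹
  map_one' := by simp
  map_mul' p p' := by
    simp only [Prod.fst_mul, Prod.snd_mul, map_mul, mul_pow, _root_.mul_inv]
    ac_rfl

theorem tpar_apply (u : Kˣ) (A : GL (Fin 2) (Fq S)) :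
    tpar S (u, A) = u ^ 2 * (ιu S (Matrix.GeneralLinearGroup.det A))⁻¹ := rfl

/-- Normal form with a prescribed first coordinate. -/
theorem exists_norm {U : Kˣ} {d : (Fq S)ˣ} {p : Kˣ × GL (Fin 2) (Fq S)}
    (h : tpar S p = U ^ 2 * (ιu S (d * d))⁻¹) :
    ∃ a : (Fq S)ˣ, Matrix.GeneralLinearGroup.det (scal a * p.2) = d * d ∧
      ∀ A, Lv S (p.1, A) = Lv S (U, scal a * A) := by
  obtain ⟨u, A₀⟩ := p
  obtain ⟨e, he⟩ : ∃ e : Kˣ, e = U * u⁻¹ := ⟨_, rfl⟩
  have he2 : e ^ 2 = ιu S (d * d * (Matrix.GeneralLinearGroup.det A₀)⁻¹) := by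
    rw [tpar_apply] at h
    rw [he, mul_pow, inv_pow, map_mul (ιu S), map_inv, eq_mul_inv_iff_mul_eq]
    rw [mul_inv_eq_iff_eq_mul] at h
    rw [h]
    simp only [_root_.mul_inv, inv_inv]
    rw [mul_assoc (U ^ 2)⁻¹, mul_inv_cancel_left, inv_mul_cancel_right]
  have hq2 : (e ^ 2) ^ q = e ^ 2 := by rw [he2, ιu_fix]
  have heq : e ^ q = e := by
    obtain ⟨ε, hε⟩ : ∃ ε : Kˣ, ε = e ^ q * e⁻¹ := ⟨_, rfl⟩
    have hε2 : ε ^ 2 = 1 := by rw [hε, mul_pow, ← pow_mul, mul_comm q 2, pow_mul, hq2, inv_pow, mul_inv_cancel]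
    have hεq := S.sq_one_pow hε2
    have e1 : e ^ q = ε * e := by rw [hε, inv_mul_cancel_right]
    have e2 : (e ^ q) ^ q = e := by rw [e1, mul_pow, hεq, e1, ← mul_assoc, ← pow_two, hε2, one_mul]
    have := pow_cube' S e
    rwa [e2] at this
  obtain ⟨a, ha⟩ := exists_ιu S heq
  refine ⟨a, ?_, fun A => ?_⟩
  · apply Units.map_injective (f := (Fq S).subtype.toMonoidHom) Subtype.val_injective
    show ιu S _ = ιu S _
    rw [map_mul, det_scal, map_mul, map_pow, ha, he2, ← map_mul, inv_mul_cancel_right]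
  · show Lv S (u, A) = _
    rw [Lv_shift S a u A, ha, he, inv_mul_cancel_right]

/-- Elements of the special linear group. -/
theorem Lv_SL (g : Matrix.SpecialLinearGroup (Fin 2) (Fq S)) :
    Lv S (1, Matrix.SpecialLinearGroup.toGL g) = phi K (Matrix.SpecialLinearGroup.map (Fq S).subtype g) ∧
      tpar S (1, Matrix.SpecialLinearGroup.toGL g) = 1 := by
  constructor
  · rw [Lv_apply, map_one, one_mul, ← Phi_SL]
    exact congrArg Phi (Units.ext (Matrix.ext fun i j => rfl))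
  · rw [tpar_apply, show Matrix.GeneralLinearGroup.det (Matrix.SpecialLinearGroup.toGL g) = 1 from Units.ext g.2]
    simp

/-- The upper element as an element of GL₂(q). -/
def upG {R : Type*} [Field R] (e : R) : GL (Fin 2) R := Matrix.SpecialLinearGroup.toGL (upS e)

/-- The lower element as an element of GL₂(q). -/
def loG {R : Type*} [Field R] (e : R) : GL (Fin 2) R := Matrix.SpecialLinearGroup.toGL (loS e)

/-- The antidiagonal element as an element of GL₂(q). -/
def antG (R : Type*) [Field R] : GL (Fin 2) R := Matrix.SpecialLinearGroup.toGL (antS (F := R))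

theorem upG_val {R : Type*} [Field R] (e : R) : (upG e).1 = up2 e := rfl

theorem loG_val {R : Type*} [Field R] (e : R) : (loG e).1 = lo2 e := rfl

theorem Lv_up (e : Fq S) : Lv S (1, upG e) = factsD4.xg 14 (e : K) := by
  rw [upG, (Lv_SL S _).1, AltSec.D4.map_upS, phi_up]; rfl

theorem Lv_lo (e : Fq S) : Lv S (1, loG e) = factsD4.xg 9 (e : K) := by
  rw [loG, (Lv_SL S _).1, AltSec.D4.map_loS, phi_lo]; rfl

theorem Lv_ant : Lv S (1, antG (Fq S)) = phi K antS := by
  rw [antG, (Lv_SL S _).1, AltSec.D4.map_antS]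

/-- Torus elements. -/
theorem exists_torus {t m : Kˣ} (hm : m ^ q = m) : ∃ p : Kˣ × GL (Fin 2) (Fq S),
    p.2.1 1 0 = 0 ∧ p.2.1 0 1 = 0 ∧ tpar S p = t ∧ Lv S p = tt S t m := by
  obtain ⟨k, hk⟩ : ∃ k, q + q * q = 2 * k := by
    obtain ⟨k, hk⟩ := Nat.even_mul_succ_self q
    exact ⟨k, by rw [← two_mul] at hk; rw [← hk]; ring⟩
  obtain ⟨u, hu⟩ : ∃ u : Kˣ, u ^ 2 = t * nrm q t := by
    refine ⟨t ^ (1 + k), ?_⟩
    rw [← pow_mul, show (1 + k) * 2 = 1 + (1 + (q + q * q)) by omega, pow_add, pow_add, pow_add, pow_mul, pow_one, nrm]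
    ac_rfl
  obtain ⟨a, ha⟩ := exists_ιu S (nrm_fix S t)
  obtain ⟨b, hb⟩ := exists_ιu S (nrm_fix S u)
  obtain ⟨c, hc⟩ := exists_ιu S hm
  obtain ⟨d, hd⟩ : ∃ d : (Fq S)ˣ, d = b * (a * c)⁻¹ := ⟨_, rfl⟩
  obtain ⟨A, hA⟩ : ∃ A : GL (Fin 2) (Fq S), A.1 = !![((a * d⁻¹ : (Fq S)ˣ) : Fq S), 0; 0, (d : Fq S)] :=
    ⟨Matrix.GeneralLinearGroup.mkOfDetNeZero _ (by
      rw [Matrix.det_fin_two_of, mul_zero, sub_zero]; exact mul_ne_zero (Units.ne_zero _) d.ne_zero), rfl⟩
  have hdet : Matrix.GeneralLinearGroup.det A = a := by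
    ext1
    rw [Matrix.GeneralLinearGroup.val_det_apply, hA, Matrix.det_fin_two_of, mul_zero, sub_zero, ← Units.val_mul,
      inv_mul_cancel_right]
  refine ⟨(u, A), by rw [hA]; rfl, by rw [hA]; rfl, ?_, ?_⟩
  · rw [tpar_apply, hdet, ha, hu, mul_inv_cancel_right]
  · have ha0q := nrm_fix S t
    rw [Lv_apply, Phi_apply, gmap_det, hdet, ha, del_eq S ha0q,
      phi_diag ((ιu S d)⁻¹) _ (by rw [prt_val]; simp [gmap_val, hA]) (by rw [prt_val]; simp [gmap_val, hA]) (by
        rw [prt_val, gmap_det, hdet]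
        simp [gmap_val, hA, ιu_val]), torus_single_eq S, zz_apply, tt_mul, tt_mul, hu, hd]
    congr 1
    · rw [mul_one, mul_inv_cancel_right]
    · rw [map_mul, map_inv, map_mul, ha, hb, hc, _root_.mul_inv, inv_inv]
      rw [mul_left_comm (nrm q t)⁻¹, mul_inv_cancel_left, inv_mul_cancel_left]

/-- The data of the element. -/
theorem exists_x : ∃ (U : Kˣ) (A₀ : GL (Fin 2) (Fq S)),
    Ell A₀.1.trace A₀.1.det ∧ orderOf (Lv S (U, A₀)) = (q ^ 3 - 1) * (q + 1) ∧
      ∀ g ∈ twistedD4 K q, Commute g (Lv S (U, A₀)) → g ^ ((q ^ 3 - 1) * (q + 1)) = 1 := by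
  classical
  obtain ⟨β, hβq, hβ⟩ := exists_beta S
  obtain ⟨hcyc, hcard⟩ := cyclic_card S hβq hβ
  obtain ⟨⟨x, hx⟩, hgen⟩ := hcyc.exists_generator
  obtain ⟨⟨U, A, hA⟩, hxA⟩ := hx
  obtain ⟨-, hglk, hh1, hh2⟩ := (mem_Cq S hβ).1 hA
  obtain ⟨A₀, hA₀⟩ := exists_gmap S hglk
  have hxL : Lv S (U, A₀) = x := by rw [← hxA, Lv_apply, hA₀]; rfl
  have hord : orderOf x = (q ^ 3 - 1) * (q + 1) := by
    rw [← hcard, ← orderOf_eq_card_of_forall_mem_zpowers hgen]
    exact orderOf_injective (Hsub S hβ).subtype Subtype.val_injective ⟨x, _⟩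
  refine ⟨U, A₀, ?_, hxL ▸ hord, ?_⟩
  swap
  · intro g hg hc
    rw [hxL] at hc
    have hcH : ∀ h ∈ Hsub S hβ, Commute h g := by
      intro h hh
      obtain ⟨n, hn⟩ := Subgroup.mem_zpowers_iff.1 (hgen ⟨h, hh⟩)
      have e : h = x ^ n := by
        have := congrArg Subtype.val hn
        simpa using this.symm
      rw [e]
      exact (hc.zpow_right n).symm
    have hgH : g ∈ Hsub S hβ := by
      rcases Nat.lt_or_ge q 3 with h | h
      · obtain rfl : q = 2 := by have := S.hq; omega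
        have : CharP K 2 := CharTwo.of_one_ne_zero_of_two_eq_zero one_ne_zero (two_zero S)
        exact cent_two S hβq hβ hg hcH
      · exact cent_three S hβq hβ h hg hcH
    rw [← hcard]
    have := congrArg Subtype.val (pow_card_eq_one' (x := (⟨g, hgH⟩ : ↥(Hsub S hβ))))
    simp only [SubgroupClass.coe_pow, OneMemClass.coe_one] at this
    exact this
  -- the square is not central in the Levi subgroup
  have hsq : ∀ a : (Fq S)ˣ, A₀ * A₀ ≠ scal a := by
    intro a ha
    have h1 : x ^ 2 = zz S (U ^ 2 * (ιu S a)⁻¹) := by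
      rw [← hxL, ← map_pow, show (U, A₀) ^ 2 = (U ^ 2, scal a) by rw [← ha, Prod.pow_mk, pow_two A₀], Lv_apply,
        scal_gmap, Phi_scal S (ιu_fix S a), ← map_mul]
    have h2 : (U ^ 2 * (ιu S a)⁻¹) ^ (q ^ 3 - 1) = 1 := by
      rw [← S.hK, ← Nat.card_units]; exact pow_card_eq_one'
    have h3 : x ^ (2 * (q ^ 3 - 1)) = 1 := by rw [pow_mul, h1, ← map_pow, h2, map_one]
    have h4 := orderOf_dvd_of_pow_eq_one h3
    rw [hord, mul_comm 2 (q ^ 3 - 1)] at h4
    have hq := S.hq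
    have hpos : 0 < q ^ 3 - 1 := by
      have : 2 ^ 3 ≤ q ^ 3 := Nat.pow_le_pow_left hq 3
      omega
    have := Nat.le_of_dvd (by norm_num) (Nat.dvd_of_mul_dvd_mul_left hpos h4)
    omega
  have hd : A₀.1.det ≠ 0 := ((A₀.1).isUnit_iff_isUnit_det.1 A₀.isUnit).ne_zero
  refine ⟨fun htr => ?_, hd, fun y hy => ?_⟩
  · refine hsq (Units.mk0 (-A₀.1.det) (neg_ne_zero.2 hd)) (Units.ext ?_)
    rw [Units.val_mul, scal_val]
    rw [trace2] at htr
    ext i j
    fin_cases i <;> fin_cases j <;> simp [Matrix.mul_apply, Fin.sum_univ_two, Matrix.det_fin_two]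
    all_goals have htr' := congrArg (Fq S).subtype htr
    all_goals simp only [map_add, map_zero, Subfield.subtype_apply] at htr'
    · linear_combination ((A₀.1 0 0 : Fq S) : K) * htr'
    · linear_combination ((A₀.1 0 1 : Fq S) : K) * htr'
    · linear_combination ((A₀.1 1 0 : Fq S) : K) * htr'
    · linear_combination ((A₀.1 1 1 : Fq S) : K) * htr'
  · rw [← hA₀] at hh1 hh2
    simp only [gmap_val] at hh1 hh2
    have hb : (A₀.1 1 0 : K) ≠ 0 := by
      intro hb
      rw [hb, mul_zero] at hh1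
      rw [hb, add_zero] at hh2
      have hb' : A₀.1 1 0 = 0 := Subtype.ext hb
      have hb1 : A₀.1 0 1 = 0 := Subtype.ext hh1
      have hb2 : A₀.1 1 1 = A₀.1 0 0 := Subtype.ext hh2
      have h0 : A₀.1 0 0 ≠ 0 := by
        intro h0
        apply hd
        rw [Matrix.det_fin_two, h0, hb']
        ring
      refine hsq (Units.mk0 (A₀.1 0 0) h0 * Units.mk0 (A₀.1 0 0) h0) (Units.ext ?_)
      rw [Units.val_mul, scal_val]
      ext i j
      fin_cases i <;> fin_cases j <;> simp [Matrix.mul_apply, Fin.sum_univ_two, hb', hb1, hb2]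
    have hy' := congrArg (Fq S).subtype hy
    simp only [map_add, map_sub, map_mul, map_zero, trace2, Matrix.det_fin_two, Subfield.subtype_apply] at hy'
    refine hβ (((y : K) - A₀.1 0 0) / A₀.1 1 0) ?_
    rw [hh1, hh2] at hy'
    field_simp
    linear_combination hy'

end Cfsg.Agent.Small.DFourThompson
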