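import Cfsg.Agent.Lib.Small.GTwoThompsonLin

/-!
Linear algebra in dimension two for the products of two conjugates of an elliptic Levi element of the
triality groups of type D4, for every size of the field.
-/

set_option autoImplicit false
set_option linter.unusedSimpArgs false
set_option linter.unusedSectionVars false

open Matrix

namespace Cfsg.Agent.Small.DFourThompson

open Cfsg.Agent.Small.SpFourThompson Cfsg.Agent.Small.GTwoThompson

variable {F : Type*} [Field F]

local notation "M₂" => Matrix (Fin 2) (Fin 2) F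

/-- An elliptic class of non-zero trace. -/
def Ell (τ d : F) : Prop := τ ≠ 0 ∧ d ≠ 0 ∧ ∀ x : F, x * x - τ * x + d ≠ 0

theorem not_scalar {τ d : F} (hg : Ell τ d) {A : M₂} (hA : InC τ d A) : ¬ ∃ c : F, A = c • (1 : M₂) := by
  rintro ⟨c, rfl⟩
  obtain ⟨h1, h2⟩ := hA
  refine hg.2.2 c ?_
  simp [trace2] at h1
  simp [det_fin_two] at h2
  rw [← h1, ← h2]
  ring

/-- Matrices of determinant `d²` as products of two class members. -/
theorem exists_pair [Fintype F] {τ d : F} (hg : Ell τ d) {M : M₂} (hdet : M.det = d * d)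
    (hM : GoodS d M) : ∃ A B : M₂, InC τ d A ∧ InC τ d B ∧ A * B = M := by
  obtain ⟨hτ, hd0, -⟩ := hg
  rcases hM with rfl | ⟨htr, hneg⟩
  · refine ⟨comp2 τ d, !![τ, d; -1, 0], comp2_inC τ d, ⟨by simp [trace2], by simp [det_fin_two]⟩, ?_⟩
    ext i j
    fin_cases i <;> fin_cases j <;> simp [comp2, Matrix.mul_apply, Fin.sum_univ_two] <;> ring
  · have hns : ¬ ∃ c : F, M = c • (1 : M₂) := by
      rintro ⟨c, rfl⟩
      have hc : (c - d) * (c + d) = 0 := by
        simp [det_fin_two] at hdet
        linear_combination hdet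
      rcases mul_eq_zero.1 hc with h | h
      · exact htr (by rw [sub_eq_zero.1 h]; simp [trace2]; ring)
      · exact hneg (by rw [eq_neg_of_add_eq_zero_left h, neg_smul])
    obtain ⟨P, hP, hMP⟩ := exists_conj_comp2 hns
    rw [hdet] at hMP
    set m := M.trace
    obtain ⟨a, c, hac⟩ : ∃ a c : F,
        a * a + m * a * c + d * d * c * c + -τ * a + -(d * τ) * c + d = 0 := by
      by_cases hD : m * m - 4 * (d * d) = 0
      · have h' : (m - 2 * d) * (m + 2 * d) = 0 := by linear_combination hD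
        have hm : m = -(2 * d) :=
          eq_neg_of_add_eq_zero_left ((mul_eq_zero.1 h').resolve_left (sub_ne_zero.2 htr))
        have h2 : (2 : F) ≠ 0 := by
          intro h2
          apply htr
          rw [hm]
          linear_combination (-2 * d) * h2
        refine ⟨d / (2 * τ), 1 / (2 * τ), ?_⟩
        rw [hm]
        field_simp
        ring
      · exact conic m (d * d) (-τ) (-(d * τ)) d hD
    set b := c * d * d + a * m - d * τ with hb
    set A : M₂ := !![a, b; c, τ - a] with hA
    have hAC : InC τ d A := by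
      refine ⟨by simp [hA, trace2], ?_⟩
      simp [hA, det_fin_two, hb]
      linear_combination -hac
    set B : M₂ := d⁻¹ • ((!![τ - a, -b; -c, a] : M₂) * comp2 m (d * d)) with hB
    have hBC : InC τ d B := by
      refine ⟨?_, ?_⟩
      · simp [hB, comp2, trace2, Matrix.mul_apply, Fin.sum_univ_two, hb]
        field_simp
        ring
      · rw [hB, det_smul, det_mul, (comp2_inC m (d * d)).2, Fintype.card_fin, det_fin_two]
        simp [hb]
        field_simp
        linear_combination -hac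
    have hAB : A * B = comp2 m (d * d) := by
      have h1 : A * !![τ - a, -b; -c, a] = d • (1 : M₂) := by
        ext i j
        fin_cases i <;> fin_cases j <;> simp [hA, Matrix.mul_apply, Fin.sum_univ_two, hb] <;>
          first
            | ring1
            | linear_combination -hac
      rw [hB, Matrix.mul_smul, ← Matrix.mul_assoc, h1, Matrix.smul_mul, Matrix.one_mul, smul_smul,
        inv_mul_cancel₀ hd0, one_smul]
    refine ⟨P * A * P⁻¹, P * B * P⁻¹, hAC.conj hP, hBC.conj hP, ?_⟩
    calc P * A * P⁻¹ * (P * B * P⁻¹) = P * A * (P⁻¹ * P) * B * P⁻¹ := by simp only [Matrix.mul_assoc]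
      _ = P * comp2 m (d * d) * P⁻¹ := by
        rw [nonsing_inv_mul P hP, Matrix.mul_one, Matrix.mul_assoc P A B, hAB]
      _ = M := by rw [← hMP, Matrix.mul_assoc, mul_nonsing_inv P hP, Matrix.mul_one]

/-- Upper unitriangular matrix. -/
def up2 (e : F) : M₂ := !![1, e; 0, 1]

/-- Lower unitriangular matrix. -/
def lo2 (e : F) : M₂ := !![1, 0; e, 1]

theorem det_up2 (e : F) : (up2 e).det = 1 := by simp [up2, det_fin_two]

theorem det_lo2 (e : F) : (lo2 e).det = 1 := by simp [lo2, det_fin_two]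

theorem mul_up2 (M : M₂) (e : F) :
    M * up2 e = !![M 0 0, M 0 0 * e + M 0 1; M 1 0, M 1 0 * e + M 1 1] := by
  ext i j
  fin_cases i <;> fin_cases j <;> simp [up2, Matrix.mul_apply, Fin.sum_univ_two]

/-- An element is not `-δ` if an off diagonal entry does not vanish. -/
theorem ne_neg_of_ne {δ : F} {S : M₂} (h : S 0 1 ≠ 0 ∨ S 1 0 ≠ 0) : S ≠ -(δ • (1 : M₂)) := by
  rintro rfl
  simp at h

/-- A free upper parameter on the right always gives a good matrix. -/
theorem shape_up {d : F} (hd : d ≠ 0) {M : M₂} (hM : M.det = d * d) : ∃ e : F, GoodS d (M * up2 e) := by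
  by_cases h10 : M 1 0 = 0
  · have hdet : M 0 0 * M 1 1 = d * d := by rw [← hM, det_fin_two, h10, mul_zero, sub_zero]
    have h00 : M 0 0 ≠ 0 := fun h => mul_ne_zero hd hd (by rw [← hdet, h, zero_mul])
    by_cases he : M 0 0 = d
    · have h11 : M 1 1 = d := by rw [he] at hdet; exact mul_left_cancel₀ hd hdet
      refine ⟨-M 0 1 / M 0 0, Or.inl ?_⟩
      rw [mul_up2]
      ext i j
      fin_cases i <;> fin_cases j <;> simp [h10, he, h11] <;> field_simp <;> ring
    · refine ⟨(1 - M 0 1) / M 0 0, Or.inr ⟨fun h => he ?_, ne_neg_of_ne (Or.inl ?_)⟩⟩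
      · rw [mul_up2, trace2] at h
        simp [h10] at h
        have : (M 0 0 - d) * (M 0 0 - d) = 0 := by linear_combination (M 0 0) * h - hdet
        exact sub_eq_zero.1 (mul_self_eq_zero.1 this)
      · rw [mul_up2]
        simp
        field_simp
        simp
  · obtain ⟨t₀, ht⟩ := exists_target hd
    refine ⟨(t₀ - M 0 0 - M 1 1) / M 1 0, ht _ ?_⟩
    rw [mul_up2, trace2]
    simp
    field_simp
    ring

theorem trace_up (c e : F) (M : M₂) : (lo2 (c * e) * M * up2 e).trace =
    M 0 0 + M 1 1 + e * (c * M 0 1 + M 1 0) + c * e * e * M 0 0 := by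
  simp [lo2, up2, trace2, Matrix.mul_apply, Fin.sum_univ_two, Matrix.vecMul, dotProduct]
  ring

theorem trace_lo (c f : F) (M : M₂) : (up2 (c * f) * M * lo2 f).trace =
    M 0 0 + M 1 1 + f * (M 0 1 + c * M 1 0) + c * f * f * M 1 1 := by
  simp [lo2, up2, trace2, Matrix.mul_apply, Fin.sum_univ_two, Matrix.vecMul, dotProduct]
  ring

/-- The moves of the opposite cell reach a good matrix. -/
theorem shape_opp {d c c' : F} (hd : d ≠ 0) (hcc : c * c' = 1) (Q : M₂ → Prop)
    (hu : ∀ (M : M₂) (e : F), M.det = d * d → Q (lo2 (c * e) * M * up2 e) → Q M)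
    (hl : ∀ (M : M₂) (f : F), M.det = d * d → Q (up2 (c' * f) * M * lo2 f) → Q M)
    (hbase : ∀ M : M₂, M.det = d * d → GoodS d M → Q M)
    (htwo : (2 : F) = 0 → ∀ M : M₂, M.det = d * d →
      (c * M 0 1 + M 1 0 ≠ 0 ∨ (M 0 0 = 0 ∧ M 1 1 = 0)) → Q M) :
    ∀ M : M₂, M.det = d * d → Q M := by
  have hc : c ≠ 0 := left_ne_zero_of_mul_eq_one hcc
  have hc' : c' ≠ 0 := right_ne_zero_of_mul_eq_one hcc
  have du : ∀ (a e : F) (M : M₂), M.det = d * d → (lo2 a * M * up2 e).det = d * d := fun a e M h => by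
    rw [det_mul, det_mul, det_lo2, det_up2, one_mul, mul_one, h]
  have dl : ∀ (a e : F) (M : M₂), M.det = d * d → (up2 a * M * lo2 e).det = d * d := fun a e M h => by
    rw [det_mul, det_mul, det_lo2, det_up2, one_mul, mul_one, h]
  intro M hM
  by_cases h2 : (2 : F) = 0
  · by_cases hσ : c * M 0 1 + M 1 0 ≠ 0 ∨ (M 0 0 = 0 ∧ M 1 1 = 0)
    · exact htwo h2 M hM hσ
    rw [not_or, not_not] at hσ
    obtain ⟨hσ, halt⟩ := hσ
    have good : ∀ S : M₂, S.trace ≠ 0 → GoodS d S := fun S hS =>
      Or.inr ⟨by rw [h2, zero_mul]; exact hS, fun h => hS (by rw [h, neg_smul_one_trace, h2, zero_mul, neg_zero])⟩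
    by_cases h0 : M 0 0 + M 1 1 = 0
    · have h00 : M 0 0 ≠ 0 := fun h => halt ⟨h, by linear_combination h0 - h⟩
      refine hu M 1 hM (hbase _ (du _ _ _ hM) (good _ ?_))
      rw [trace_up, hσ, h0]
      simpa using mul_ne_zero hc h00
    · exact hbase M hM (good M (by rw [trace2]; exact h0))
  have h2d : (2 : F) * d ≠ 0 := mul_ne_zero h2 hd
  have hscal : Q (-(d • (1 : M₂))) := by
    have hdet : (-(d • (1 : M₂))).det = d * d := by simp [det_fin_two]
    have offd : ∀ e : F, e ≠ 0 → (lo2 (c * e) * -(d • (1 : M₂)) * up2 e) 0 1 ≠ 0 := fun e he => by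
      simp [lo2, up2, Matrix.mul_apply, Fin.sum_univ_two, hd, he]
    have tru : ∀ e : F, (lo2 (c * e) * -(d • (1 : M₂)) * up2 e).trace = -d * (2 + c * e * e) := fun e => by
      rw [trace_up]
      simp
      ring
    by_cases hA : 2 + c = -2
    · by_cases hB : 2 + c * 4 = -2
      · have h3 : (3 : F) = 0 := (mul_eq_zero.1 (show (3 : F) * c = 0 by linear_combination hB - hA)).resolve_right hc
        have hc1 : c = -1 := by linear_combination hA - h3
        have hc1' : c' = -1 := by rw [hc1] at hcc; linear_combination -hcc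
        refine hu _ 1 hdet (hl _ (-1) (du _ _ _ hdet) (hbase _ (dl _ _ _ (du _ _ _ hdet)) (Or.inr ⟨?_, ne_neg_of_ne (Or.inr ?_)⟩)))
        · rw [trace_lo, hc1, hc1']
          simp [lo2, up2, Matrix.mul_apply, Fin.sum_univ_two]
          intro h
          exact h2d (by linear_combination -(2 * h) + 0 * h3)
        · simp [lo2, up2, Matrix.mul_apply, Fin.sum_univ_two, hc1, hc1', hd]
      · refine hu _ 2 hdet (hbase _ (du _ _ _ hdet) (Or.inr ⟨?_, ne_neg_of_ne (Or.inl (offd 2 h2))⟩))
        rw [tru]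
        intro h
        apply hB
        apply mul_left_cancel₀ (neg_ne_zero.2 hd)
        linear_combination h
    · refine hu _ 1 hdet (hbase _ (du _ _ _ hdet) (Or.inr ⟨?_, ne_neg_of_ne (Or.inl (offd 1 one_ne_zero))⟩))
      rw [tru]
      intro h
      apply hA
      apply mul_left_cancel₀ (neg_ne_zero.2 hd)
      linear_combination h
  have hgood : ∀ S : M₂, S.det = d * d → S.trace ≠ 2 * d → Q S := fun S hS htr => by
    by_cases hs : S = -(d • (1 : M₂))
    · rw [hs]; exact hscal
    · exact hbase S hS (Or.inr ⟨htr, hs⟩)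
  by_cases h0 : M.trace = 2 * d
  swap
  · exact hgood M hM h0
  rw [trace2] at h0
  by_cases hp : (lo2 (c * 1) * M * up2 1).trace = 2 * d
  swap
  · exact hu M 1 hM (hgood _ (du _ _ _ hM) hp)
  by_cases hm : (lo2 (c * -1) * M * up2 (-1)).trace = 2 * d
  swap
  · exact hu M (-1) hM (hgood _ (du _ _ _ hM) hm)
  by_cases hp' : (up2 (c' * 1) * M * lo2 1).trace = 2 * d
  swap
  · exact hl M 1 hM (hgood _ (dl _ _ _ hM) hp')
  by_cases hm' : (up2 (c' * -1) * M * lo2 (-1)).trace = 2 * d
  swap
  · exact hl M (-1) hM (hgood _ (dl _ _ _ hM) hm')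
  rw [trace_up] at hp hm
  rw [trace_lo] at hp' hm'
  exfalso
  have e00 : M 0 0 = 0 := (mul_eq_zero.1 (show 2 * c * M 0 0 = 0 by linear_combination hp + hm - 2 * h0)).resolve_left
    (mul_ne_zero h2 hc)
  have e11 : M 1 1 = 0 := (mul_eq_zero.1 (show 2 * c' * M 1 1 = 0 by linear_combination hp' + hm' - 2 * h0)).resolve_left
    (mul_ne_zero h2 hc')
  rw [e00, e11, add_zero] at h0
  exact h2d h0.symm

end Cfsg.Agent.Small.DFourThompson
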