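import Cfsg.Agent.Lib.Small.DFourThompson.Cover

/-!
The cell of the longest element.
-/

set_option autoImplicit false
set_option maxRecDepth 4000
set_option linter.unusedSectionVars false
set_option linter.unusedSimpArgs false

namespace Cfsg.Agent.Small.DFourThompson

open Cfsg.Lie Matrix Cfsg.Agent.Lie Cfsg.Agent.Small.D4Torus Cfsg.Agent.Small.SpFourThompson
open Cfsg.Agent.Small.GTwoThompson (GoodS)
open Cfsg.Agent.Lie.D4 (Setup neZero_rank)
open Cfsg.Agent.Lie.D4.Setup (cB)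
open scoped MatrixGroups

local notation "GD" => GL chevD4.Idx

theorem toGL_up_inv {R : Type*} [Field R] (e : R) : (upG e)⁻¹ = upG (-e) := by
  rw [inv_eq_iff_mul_eq_one]
  refine Units.ext ?_
  rw [Units.val_mul, upG_val, upG_val, Units.val_one]
  ext i j
  fin_cases i <;> fin_cases j <;> simp [up2]

theorem toGL_lo_inv {R : Type*} [Field R] (e : R) : (loG e)⁻¹ = loG (-e) := by
  rw [inv_eq_iff_mul_eq_one]
  refine Units.ext ?_
  rw [Units.val_mul, loG_val, loG_val, Units.val_one]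
  ext i j
  fin_cases i <;> fin_cases j <;> simp [lo2]

theorem antG_eq {R : Type*} [Field R] : antG R = upG 1 * loG (-1) * upG 1 := by
  rw [antG, upG, loG, ← map_mul, ← map_mul]
  congr 1
  ext i j
  simp only [RankOneRel.entries_mul]
  fin_cases i <;> fin_cases j <;> simp [upS, loS, antS]

/-- The diagonal matrix moves past a lower element. -/
theorem diag_lo {R : Type*} [Field R] {D : Matrix (Fin 2) (Fin 2) R} (h10 : D 1 0 = 0) (h01 : D 0 1 = 0)
    (h00 : D 0 0 ≠ 0) (x : R) : D * lo2 x = lo2 (D 1 1 / D 0 0 * x) * D := by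
  ext i j
  fin_cases i <;> fin_cases j <;> simp [lo2, Matrix.mul_apply, Fin.sum_univ_two, h10, h01]
  field_simp

/-- The diagonal matrix moves past an upper element. -/
theorem diag_up {R : Type*} [Field R] {D : Matrix (Fin 2) (Fin 2) R} (h10 : D 1 0 = 0) (h01 : D 0 1 = 0)
    (h11 : D 1 1 ≠ 0) (x : R) : D * up2 x = up2 (D 0 0 / D 1 1 * x) * D := by
  ext i j
  fin_cases i <;> fin_cases j <;> simp [up2, Matrix.mul_apply, Fin.sum_univ_two, h10, h01]
  field_simp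

/-- The permutation of the short middle root conjugator. -/
def piBA (r : ℕ) : ℕ := piB (actR chevD4 [1] r)

/-- Its inverse. -/
def piAB (r : ℕ) : ℕ := actR chevD4 [1] (piB r)

/-- The permutation of the short middle reflection. -/
def piD (r : ℕ) : ℕ := piBA (piB (piAB r))

theorem opp_tab : (∀ r < 24, piAB r < 24 ∧ piBA (piAB r) = r) ∧ piAB 14 = 23 ∧ piD 14 = 14 ∧ piD 9 = 9 ∧
    (∀ r ∈ [18, 13, 12], r < 24 ∧ piBA r ∈ posR) ∧ (∀ r ∈ [5, 10, 11], r < 24 ∧ piBA r ∈ negR) ∧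
    (∀ r < 24, piD r < 24 ∧ piD (piD r) = r) ∧
    (23 ∈ posR ∧ 0 ∈ negR ∧ 23 < 24) := by decide +kernel

variable {K : Type*} [Field K] [Fintype K] {q : ℕ} {S : Setup K q} (P : Par S)

include S in
theorem sign_fix {c : K} (hc : c * c = 1) : ∃ e : Fq S, (e : K) = c := by
  refine (sq_fix S).2 ?_
  rcases mul_self_eq_one_iff.1 hc with h | h <;> rw [h]
  · exact one_pow q
  · rw [← S.hfr, map_neg, map_one]

/-- The action of the opposite representative on the two long root subgroups. -/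
theorem twist_const : ∃ c c' : Fq S, c * c' = 1 ∧ ((2 : Fq S) = 0 → c = 1) ∧
    ∀ e : Fq S, (n0 S)⁻¹ * Lv S (1, upG e) * n0 S = Lv S (1, loG (c * e)) ∧
      (n0 S)⁻¹ * Lv S (1, loG e) * n0 S = Lv S (1, upG (c' * e)) := by
  obtain ⟨-, h14, h9, -⟩ := pi0_tab
  obtain ⟨-, a, ha, ha'⟩ := mono_n0_inv S 14 (by norm_num)
  obtain ⟨-, b, hb, hb'⟩ := mono_n0_inv S 9 (by norm_num)
  obtain ⟨c, hca⟩ := sign_fix (S := S) ha
  obtain ⟨c', hcb⟩ := sign_fix (S := S) hb
  have h1 : ∀ e : Fq S, (n0 S)⁻¹ * Lv S (1, upG e) * n0 S = Lv S (1, loG (c * e)) := fun e => by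
    have := ha' (e : K)
    rw [inv_inv, h14] at this
    rw [Lv_up, Lv_lo, this]
    congr 1
    rw [← hca]; rfl
  have h2 : ∀ e : Fq S, (n0 S)⁻¹ * Lv S (1, loG e) * n0 S = Lv S (1, upG (c' * e)) := fun e => by
    have := hb' (e : K)
    rw [inv_inv, h9] at this
    rw [Lv_up, Lv_lo, this]
    congr 1
    rw [← hcb]; rfl
  have hcc : c * c = 1 := Subtype.ext (by rw [Subfield.coe_mul, hca, ha, Subfield.coe_one])
  refine ⟨c, c', ?_, fun h => ?_, fun e => ⟨h1 e, h2 e⟩⟩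
  · have e1 : Lv S (1, antG (Fq S) * loG (1 : Fq S)) = Lv S (1, upG (-1 : Fq S) * antG (Fq S)) := by
      congr 2
      rw [antG, upG, loG, ← map_mul, ← map_mul]
      congr 1
      ext i j
      simp only [RankOneRel.entries_mul]
      fin_cases i <;> fin_cases j <;> simp [upS, loS, antS]
    have hm : ∀ A B : GL (Fin 2) (Fq S), (n0 S)⁻¹ * Lv S (1, A * B) * n0 S =
        ((n0 S)⁻¹ * Lv S (1, A) * n0 S) * ((n0 S)⁻¹ * Lv S (1, B) * n0 S) := fun A B => by
      rw [show ((1 : Kˣ), A * B) = ((1 : Kˣ), A) * (1, B) by simp, map_mul]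
      group
    have e2 := congrArg (fun g => (n0 S)⁻¹ * g * n0 S) e1
    simp only [antG_eq, hm, h1, h2, ← map_mul, Prod.mk_mul_mk, mul_one] at e2
    have e3 := congrArg (fun A : GL (Fin 2) (Fq S) => A.1 1 0) (Lv_inj_one S e2)
    simp [Units.val_mul, upG_val, loG_val, up2, lo2, Matrix.mul_apply, Fin.sum_univ_two, Matrix.vecMul,
      dotProduct] at e3
    rcases e3 with e3 | e3
    · exact absurd e3 (left_ne_zero_of_mul_eq_one hcc)
    · linear_combination -e3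
  · rcases mul_self_eq_one_iff.1 hcc with h' | h'
    · exact h'
    · rw [h']; linear_combination -h

/-- The SL₂(q) of the highest root moves into the big cell. -/
theorem long_cell (v : Kˣ) :
    ∃ y ∈ Upos (K := K) (q := q), ∃ v' ∈ Uneg (K := K) (q := q), ∃ u' ∈ Upos (K := K) (q := q),
      y * n0 S = v' * tt S v 1 * u' := by
  obtain ⟨-, -, -, -, -, -, -, h23, h0, -⟩ := opp_tab
  obtain ⟨a, ha, hau⟩ := AltSec.D4.phiA_up (Fq S).subtype
  obtain ⟨b, hb, hbl⟩ := AltSec.D4.phiA_lo (Fq S).subtype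
  have hG : ∀ g, AltSec.D4.phiA (Fq S).subtype g ∈ twistedD4 K q := fun g =>
    AltSec.D4.range_le S (fun t => pow_val S t) (AltSec.D4.phiA_mem S _ g)
  have hU : ∀ t : Fq S, AltSec.D4.phiA (Fq S).subtype (upS t) ∈ Upos (K := K) (q := q) := fun t =>
    Subgroup.mem_inf.2 ⟨by rw [hau, ← factsD4.tsys_x]; exact CommSys.x_mem_US _ h23 _, hG _⟩
  have hV : ∀ t : Fq S, AltSec.D4.phiA (Fq S).subtype (loS t) ∈ Uneg (K := K) (q := q) := fun t =>
    Subgroup.mem_inf.2 ⟨by rw [hbl, ← factsD4.tsys_x]; exact CommSys.x_mem_US _ h0 _, hG _⟩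
  refine ⟨AltSec.D4.phiA (Fq S).subtype (upS (-1)) * AltSec.D4.phiB S (upS ((-v : Kˣ) : K)),
    mul_mem (hU _) (bUp_mem (S := S) _),
    AltSec.D4.phiA (Fq S).subtype (loS (-1)) * AltSec.D4.phiB S (loS (((-v)⁻¹ : Kˣ) : K)),
    mul_mem (hV _) (bLo_mem (S := S) _),
    AltSec.D4.phiA (Fq S).subtype (upS 1) * AltSec.D4.phiB S (upS (-(((-v)⁻¹ : Kˣ) : K))),
    mul_mem (hU _) (bUp_mem (S := S) _), ?_⟩
  have hB : AltSec.D4.phiB S (upS ((-v : Kˣ) : K)) * nB S =
      AltSec.D4.phiB S (loS (((-v)⁻¹ : Kˣ) : K)) * tt S v 1 * AltSec.D4.phiB S (upS (-(((-v)⁻¹ : Kˣ) : K))) := by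
    rw [nB, ← map_mul, up_ant (-v), neg_neg, map_mul, map_mul, phiB_diag]
  have hA : AltSec.D4.phiA (Fq S).subtype (upS (-1)) * AltSec.D4.phiA (Fq S).subtype antS =
      AltSec.D4.phiA (Fq S).subtype (loS (-1)) * AltSec.D4.phiA (Fq S).subtype (upS 1) := by
    rw [← map_mul, ← map_mul]
    congr 1
    ext i j
    simp only [RankOneRel.entries_mul]
    fin_cases i <;> fin_cases j <;> simp [upS, loS, antS]
  have hc := AltSec.D4.phiA_phiB S (Fq S).subtype
  rw [← phiB_diag (S := S)] at hB ⊢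
  calc AltSec.D4.phiA (Fq S).subtype (upS (-1)) * AltSec.D4.phiB S (upS ((-v : Kˣ) : K)) * n0 S
      = (AltSec.D4.phiA (Fq S).subtype (upS (-1)) * AltSec.D4.phiA (Fq S).subtype antS) *
          (AltSec.D4.phiB S (upS ((-v : Kˣ) : K)) * nB S) := by
        rw [n0]
        simp only [mul_assoc]
        rw [← mul_assoc (AltSec.D4.phiB S (upS ((-v : Kˣ) : K))), ← (hc antS (upS ((-v : Kˣ) : K))).eq, mul_assoc]
    _ = AltSec.D4.phiA (Fq S).subtype (loS (-1)) *
          ((AltSec.D4.phiA (Fq S).subtype (upS 1) * (AltSec.D4.phiB S (loS (((-v)⁻¹ : Kˣ) : K)) *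
            AltSec.D4.phiB S (dS v))) * AltSec.D4.phiB S (upS (-(((-v)⁻¹ : Kˣ) : K)))) := by
        rw [hA, hB]; simp only [mul_assoc]
    _ = _ := by
        rw [← map_mul, (hc (upS 1) _).eq, map_mul]
        simp only [mul_assoc]

/-- The representative of the short middle reflection. -/
noncomputable def nD (S : Setup K q) : GD K := nB S * nA K * nB S * (nB S * nA K)⁻¹

theorem mono_BA : Mono (nB S * nA K) piBA := (mono_B (S := S)).mul mono_A

theorem mono_AB : Mono (nB S * nA K)⁻¹ piAB := (mono_BA (S := S)).inv opp_tab.1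

theorem mono_D : Mono (nD S) piD := ((mono_BA (S := S)).mul (mono_B (S := S))).mul (mono_AB (S := S))

theorem nD_mem : nD S ∈ twistedD4 K q :=
  mul_mem (mul_mem (mul_mem (nB_mem S) (nA_mem S)) (nB_mem S)) (inv_mem (mul_mem (nB_mem S) (nA_mem S)))

include S in
theorem mem_range_of_H {g : GD K} (hg : g ∈ (factsD4.tsys K).H) (hG : g ∈ twistedD4 K q) :
    g ∈ (Lv S).range := by
  rw [factsD4.tsys_H] at hg
  obtain ⟨t, m, hm, rfl⟩ := S.exists_crd hg (S.le_fix hG)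
  obtain ⟨p, -, -, -, hp⟩ := exists_torus S (t := t) hm
  exact ⟨p, hp⟩

theorem rel_nD : ∃ h ∈ (factsD4.tsys K).H, h ∈ twistedD4 K q ∧
    nA K * nB S * nA K * nB S * nA K * nB S * h = n0 S := by
  obtain ⟨z, hz, hzB⟩ : ∃ z ∈ (factsD4.tsys K).H, (nB S)⁻¹ = z * nB S := by
    refine ⟨(nB S)⁻¹ * (nB S)⁻¹, ?_, by group⟩
    rw [nB, ← map_inv, ← map_mul,
      show (antS : Matrix.SpecialLinearGroup (Fin 2) K)⁻¹ * antS⁻¹ = dS (-1) by
        rw [← _root_.mul_inv_rev, inv_eq_iff_mul_eq_one]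
        ext i j
        simp only [RankOneRel.entries_mul]
        fin_cases i <;> fin_cases j <;> simp [antS, dS],
      phiB_diag]
    exact tt_mem_H S _ _
  obtain ⟨z', hz', hzA⟩ : ∃ z ∈ (factsD4.tsys K).H, (nA K)⁻¹ = z * nA K := by
    rw [nA_eq, TorusSys.nw_singleton]
    exact (factsD4.tsys K).nS_inv _
  have hw : n0 S = nA K * nB S * nA K * (nB S)⁻¹ * (nA K)⁻¹ * nB S := by
    have e0 : (factsD4.tsys K).nw AltSec.D4.word0 = nA K * nB S := by
      rw [nA_eq, nB_eq, ← TorusSys.nw_append]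
      congr 1
    rw [n0, phiA_ant, e0]
    group
  refine ⟨(nA K * nB S * nA K * nB S * nA K * nB S)⁻¹ * n0 S, ?_, ?_, by group⟩
  · rw [hw, hzB, hzA, show (nA K * nB S * nA K * nB S * nA K * nB S)⁻¹ *
        (nA K * nB S * nA K * (z * nB S) * (z' * nA K) * nB S) =
        (nB S)⁻¹ * ((nA K)⁻¹ * (((nB S)⁻¹ * z * nB S) * z') * nA K) * nB S by group]
    have hN : ∀ n : GD K, n ∈ (factsD4.tsys K).N → ∀ a ∈ (factsD4.tsys K).H, n⁻¹ * a * n ∈ (factsD4.tsys K).H :=
      fun n hn a ha => by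
        have := (factsD4.tsys K).H_normal_in_N (inv_mem hn) ha
        rwa [inv_inv] at this
    have hA : nA K ∈ (factsD4.tsys K).N := by rw [nA_eq]; exact (factsD4.tsys K).nw_mem_N _
    have hB : nB S ∈ (factsD4.tsys K).N := by rw [nB_eq]; exact (factsD4.tsys K).nw_mem_N _
    exact hN _ hB _ (hN _ hA _ (mul_mem (hN _ hB _ hz) hz'))
  · have hA := nA_mem S
    have hB := nB_mem S
    exact mul_mem (inv_mem (mul_mem (mul_mem (mul_mem (mul_mem (mul_mem hA hB) hA) hB) hA) hB)) (n0_mem S)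

/-- The two representatives differ by an element of the Levi subgroup. -/
theorem exists_la : ∃ pa, n0 S = nD S * Lv S pa := by
  obtain ⟨h, hh, hhG, he⟩ := rel_nD (S := S)
  have hA := nA_mem S
  have hB := nB_mem S
  obtain ⟨pA, hpA⟩ : (nD S)⁻¹ * nA K * nD S ∈ (Lv S).range := by
    obtain ⟨-, -, h14, h9, -, -, htab, -⟩ := opp_tab
    have hi := (mono_D (S := S)).inv htab
    obtain ⟨-, e14, he14, c14⟩ := hi 14 (by norm_num)
    obtain ⟨-, e9, he9, c9⟩ := hi 9 (by norm_num)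
    obtain ⟨a, ha⟩ := sign_fix (S := S) he14
    obtain ⟨b, hb⟩ := sign_fix (S := S) he9
    have x14 : ∀ t : Fq S, (nD S)⁻¹ * Lv S (1, upG t) * nD S ∈ (Lv S).range := fun t => by
      have := c14 (t : K)
      rw [inv_inv, h14] at this
      rw [Lv_up, this, ← ha, ← Subfield.coe_mul, ← Lv_up]
      exact ⟨_, rfl⟩
    have x9 : ∀ t : Fq S, (nD S)⁻¹ * Lv S (1, loG t) * nD S ∈ (Lv S).range := fun t => by
      have := c9 (t : K)
      rw [inv_inv, h9] at this
      rw [Lv_lo, this, ← hb, ← Subfield.coe_mul, ← Lv_lo]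
      exact ⟨_, rfl⟩
    have e : nA K = Lv S (1, upG 1) * Lv S (1, loG (-1)) * Lv S (1, upG 1) := by
      rw [← map_mul, ← map_mul, nA, ← Lv_ant S, antG_eq]
      congr 1
      ext <;> simp
    rw [e, show ∀ a b c : GD K, (nD S)⁻¹ * (a * b * c) * nD S = ((nD S)⁻¹ * a * nD S) *
      ((nD S)⁻¹ * b * nD S) * ((nD S)⁻¹ * c * nD S) from fun a b c => by group]
    exact mul_mem (mul_mem (x14 1) (x9 (-1))) (x14 1)
  obtain ⟨pz, hpz⟩ : (nD S)⁻¹ * (nB S * nA K * nB S * nA K * nB S) ∈ (Lv S).range := by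
    refine mem_range_of_H ?_ (mul_mem (inv_mem nD_mem) (mul_mem (mul_mem (mul_mem (mul_mem hB hA) hB) hA) hB))
    rw [nD, show (nB S * nA K * nB S * (nB S * nA K)⁻¹)⁻¹ * (nB S * nA K * nB S * nA K * nB S) =
      nB S * nA K * (nA K * nB S) by group]
    have hNA : nA K ∈ (factsD4.tsys K).N := by rw [nA_eq]; exact (factsD4.tsys K).nw_mem_N _
    have hNB : nB S ∈ (factsD4.tsys K).N := by rw [nB_eq]; exact (factsD4.tsys K).nw_mem_N _
    have h2A : nA K * nA K ∈ (factsD4.tsys K).H := by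
      rw [nA_eq, TorusSys.nw_singleton]; exact (factsD4.tsys K).nS_sq_mem _
    have h2B : nB S * nB S ∈ (factsD4.tsys K).H := by
      rw [nB, ← map_mul, show (antS : Matrix.SpecialLinearGroup (Fin 2) K) * antS = dS (-1) by
        ext i j
        simp only [RankOneRel.entries_mul]
        fin_cases i <;> fin_cases j <;> simp [antS, dS], phiB_diag]
      exact tt_mem_H S _ _
    rw [show nB S * nA K * (nA K * nB S) = (nB S * (nA K * nA K) * (nB S)⁻¹) * (nB S * nB S) by group]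
    exact mul_mem ((factsD4.tsys K).H_normal_in_N hNB h2A) h2B
  obtain ⟨ph, hph⟩ := mem_range_of_H hh hhG
  refine ⟨pA * pz * ph, ?_⟩
  rw [map_mul, map_mul, hpA, hpz, hph, ← he]
  group

/-- The central elements of the Levi subgroup reached by the middle reflection in characteristic two. -/
theorem middle_cell (h2 : (2 : Fq S) = 0) : ∀ T : Kˣ, ∃ y ∈ Upos (K := K) (q := q), ∃ v ∈ Uneg (K := K) (q := q),
    ∃ u' ∈ Upos (K := K) (q := q), ∃ (pX : Kˣ × GL (Fin 2) (Fq S)) (a : (Fq S)ˣ),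
      pX.2 = scal a ∧ tpar S pX = T ∧ y * nD S = v * Lv S pX * u' := by
  have h2K : (2 : K) = 0 := by rw [← map_ofNat (Fq S).subtype 2, h2, map_zero]
  obtain ⟨-, h23, -, -, hpos, hneg, -, -, -, h23'⟩ := opp_tab
  have hNBA : nB S * nA K ∈ (factsD4.tsys K).N := by
    rw [nA_eq, nB_eq]; exact mul_mem ((factsD4.tsys K).nw_mem_N _) ((factsD4.tsys K).nw_mem_N _)
  have hBA : nB S * nA K ∈ twistedD4 K q := mul_mem (nB_mem S) (nA_mem S)
  have key : ∀ w : Kˣ, ∃ (pX : Kˣ × GL (Fin 2) (Fq S)) (a : (Fq S)ˣ), pX.2 = scal a ∧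
      Lv S pX = nB S * nA K * tt S w 1 * (nB S * nA K)⁻¹ := by
    intro w
    have hH := (factsD4.tsys K).H_normal_in_N hNBA (tt_mem_H S w 1)
    have hG : nB S * nA K * tt S w 1 * (nB S * nA K)⁻¹ ∈ twistedD4 K q :=
      mul_mem (mul_mem hBA (S.torus_mem (one_pow q))) (inv_mem hBA)
    have hH' := hH
    rw [factsD4.tsys_H] at hH'
    obtain ⟨t, m, hm, htm⟩ := S.exists_crd hH' (S.le_fix hG)
    obtain ⟨pX, h10, h01, -, hp⟩ := exists_torus S (t := t) hm
    have hX : Lv S pX = nB S * nA K * tt S w 1 * (nB S * nA K)⁻¹ := hp.trans htm.symm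
    have hcomm : Commute (Lv S pX) (Lv S (1, upG 1)) := by
      rw [hX, Lv_up]
      obtain ⟨-, e, -, he⟩ := mono_AB (S := S) 14 (by norm_num)
      have h' := he ((1 : Fq S) : K)
      rw [inv_inv, h23] at h'
      obtain ⟨c23, -⟩ := AltSec.D4.cart_roots
      simp only [List.map_cons, List.map_nil, List.range, List.range.loop, List.cons.injEq, and_true] at c23
      have hz : tt S w 1 * factsD4.xg 23 (e * ((1 : Fq S) : K)) * (tt S w 1)⁻¹ =
          factsD4.xg 23 (e * ((1 : Fq S) : K)) := by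
        rw [tt, factsD4.torus_conj _ h23', AltSec.D4.char_tt, c23.1, c23.2.1, c23.2.2.1, c23.2.2.2]
        simp
      rw [← h'] at hz
      show nB S * nA K * tt S w 1 * (nB S * nA K)⁻¹ * factsD4.xg 14 ((1 : Fq S) : K) = _
      have hz' := mul_inv_eq_iff_eq_mul.1 hz
      calc _ = nB S * nA K * (tt S w 1 * ((nB S * nA K)⁻¹ * factsD4.xg 14 ((1 : Fq S) : K) * (nB S * nA K))) *
            (nB S * nA K)⁻¹ := by group
        _ = _ := by rw [hz']; group
    have e := hcomm.eq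
    rw [← map_mul, ← map_mul] at e
    obtain ⟨u, A⟩ := pX
    have e' : Lv S (1, (upG 1 * A)⁻¹ * (A * upG 1)) = Lv S (1, 1) := by
      rw [show ((1 : Kˣ), (upG (1 : Fq S) * A)⁻¹ * (A * upG 1)) =
        (((1 : Kˣ), upG (1 : Fq S)) * (u, A))⁻¹ * ((u, A) * (1, upG 1)) by ext <;> simp, map_mul, map_inv,
        e, inv_mul_cancel]
      exact (map_one (Lv S)).symm
    have hd := congrArg (fun B : GL (Fin 2) (Fq S) => B.1 0 1) (inv_mul_eq_one.1 (Lv_inj_one S e'))
    replace h10 : A.1 1 0 = 0 := h10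
    replace h01 : A.1 0 1 = 0 := h01
    simp [Units.val_mul, upG_val, up2, Matrix.mul_apply, Fin.sum_univ_two, Matrix.vecMul, dotProduct, h01] at hd
    have hne : A.1 0 0 ≠ 0 := by
      intro h0
      have := (Matrix.GeneralLinearGroup.det A).ne_zero
      rw [Matrix.GeneralLinearGroup.val_det_apply, Matrix.det_fin_two, h0, h10] at this
      simp at this
    refine ⟨(u, A), Units.mk0 _ hne, Units.ext ?_, hX⟩
    rw [scal_val]
    ext i j
    fin_cases i <;> fin_cases j <;> simp [h10, h01, hd]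
  choose pX a hpa hpX using key
  have hinj : Function.Injective fun w => tpar S (pX w) := by
    intro w w' hww
    have h1 : tpar S (pX w * (pX w')⁻¹) = 1 := by
      rw [map_mul, map_inv]; exact mul_inv_eq_one.2 hww
    have h2' : (pX w * (pX w')⁻¹).2 = scal (a w * (a w')⁻¹) := by
      rw [Prod.snd_mul, Prod.snd_inv, hpa, hpa, map_mul, map_inv]
    have h3 : Lv S (pX w * (pX w')⁻¹) = 1 := by
      obtain ⟨⟨u, A⟩, hpe⟩ : ∃ p, p = pX w * (pX w')⁻¹ := ⟨_, rfl⟩
      rw [← hpe] at h1 h2' ⊢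
      replace h2' : A = scal (a w * (a w')⁻¹) := h2'
      subst h2'
      rw [tpar_apply, det_scal, mul_inv_eq_one, map_pow] at h1
      have hu : u = ιu S (a w * (a w')⁻¹) := by
        ext1
        have h1' := congrArg Units.val h1
        simp only [Units.val_pow_eq_pow_val] at h1'
        have e : ((u : K) - ιu S (a w * (a w')⁻¹)) * ((u : K) - ιu S (a w * (a w')⁻¹)) = 0 := by
          linear_combination h1' + ((ιu S (a w * (a w')⁻¹) : K) * ιu S (a w * (a w')⁻¹) -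
            (u : K) * ιu S (a w * (a w')⁻¹)) * h2K
        exact sub_eq_zero.1 (mul_self_eq_zero.1 e)
      rw [Lv_apply, scal_gmap, Phi_scal S (ιu_fix S _), map_inv, hu, mul_inv_cancel]
    rw [map_mul, map_inv, mul_inv_eq_one, hpX, hpX] at h3
    exact (S.crd_inj (mul_left_cancel (mul_right_cancel h3))).1
  intro T
  obtain ⟨w, hw⟩ := Finite.surjective_of_injective hinj T
  refine ⟨nB S * nA K * AltSec.D4.phiB S (upS ((-w : Kˣ) : K)) * (nB S * nA K)⁻¹, ?_,
    nB S * nA K * AltSec.D4.phiB S (loS (((-w)⁻¹ : Kˣ) : K)) * (nB S * nA K)⁻¹, ?_,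
    nB S * nA K * AltSec.D4.phiB S (upS (-(((-w)⁻¹ : Kˣ) : K))) * (nB S * nA K)⁻¹, ?_,
    pX w, a w, hpa w, hw, ?_⟩
  · exact Subgroup.mem_inf.2 ⟨(mono_BA (S := S)).conj_US hpos (bUp_US (S := S) _),
      mul_mem (mul_mem hBA (bUp_mem (S := S) _).2) (inv_mem hBA)⟩
  · exact Subgroup.mem_inf.2 ⟨(mono_BA (S := S)).conj_US hneg (bLo_US (S := S) _),
      mul_mem (mul_mem hBA (bLo_mem (S := S) _).2) (inv_mem hBA)⟩
  · exact Subgroup.mem_inf.2 ⟨(mono_BA (S := S)).conj_US hpos (bUp_US (S := S) _),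
      mul_mem (mul_mem hBA (bUp_mem (S := S) _).2) (inv_mem hBA)⟩
  have hB : AltSec.D4.phiB S (upS ((-w : Kˣ) : K)) * nB S =
      AltSec.D4.phiB S (loS (((-w)⁻¹ : Kˣ) : K)) * tt S w 1 * AltSec.D4.phiB S (upS (-(((-w)⁻¹ : Kˣ) : K))) := by
    rw [nB, ← map_mul, up_ant (-w), neg_neg, map_mul, map_mul, phiB_diag]
  rw [hpX, nD]
  calc _ = nB S * nA K * (AltSec.D4.phiB S (upS ((-w : Kˣ) : K)) * nB S) * (nB S * nA K)⁻¹ := by group
    _ = _ := by rw [hB]; group

/-- Characteristic two: a non-zero sum off the diagonal, or an alternating matrix. -/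
theorem opp_two (h2 : (2 : Fq S) = 0) (p' : Kˣ × GL (Fin 2) (Fq S))
    (h : p'.2.1 0 1 + p'.2.1 1 0 ≠ 0 ∨ (p'.2.1 0 0 = 0 ∧ p'.2.1 1 1 = 0)) {u : GD K}
    (hu : u ∈ Upos (K := K) (q := q)) : Cov P (n0 S * Lv S p' * u) := by
  obtain ⟨c, c', hcc, hc1, hct⟩ := twist_const (S := S)
  have hc := hc1 h2
  have hc' : c' = 1 := by rw [hc, one_mul] at hcc; exact hcc
  obtain ⟨pa, hpa⟩ := exists_la (S := S)
  obtain ⟨-, -, h14, h9, -, -, -, -⟩ := opp_tab
  have h2K : (2 : K) = 0 := by rw [← map_ofNat (Fq S).subtype 2, h2, map_zero]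
  have sgn : ∀ e : K, e * e = 1 → e = 1 := fun e he => by
    rcases mul_self_eq_one_iff.1 he with h | h
    · exact h
    · rw [h]; linear_combination -h2K
  obtain ⟨R, hR⟩ : ∃ R, R = pa.2 := ⟨_, rfl⟩
  have conj14 : R⁻¹ * upG 1 * R = loG (1 : Fq S) := by
    apply Lv_inj_one S
    obtain ⟨-, e, he, hD⟩ := mono_D (S := S) 14 (by norm_num)
    have e1 := hD ((1 : Fq S) : K)
    rw [sgn e he, one_mul, h14, ← Lv_up] at e1
    have e2 := (hct 1).1
    rw [hc, one_mul, hpa] at e2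
    rw [show ((1 : Kˣ), R⁻¹ * upG 1 * R) = pa⁻¹ * (1, upG (1 : Fq S)) * pa by ext <;> simp [hR], map_mul, map_mul,
      map_inv, ← e2]
    conv_rhs => rw [← e1]
    group
  have conj9 : R⁻¹ * loG 1 * R = upG (1 : Fq S) := by
    apply Lv_inj_one S
    obtain ⟨-, e, he, hD⟩ := mono_D (S := S) 9 (by norm_num)
    have e1 := hD ((1 : Fq S) : K)
    rw [sgn e he, one_mul, h9, ← Lv_lo] at e1
    have e2 := (hct 1).2
    rw [hc', one_mul, hpa] at e2
    rw [show ((1 : Kˣ), R⁻¹ * loG 1 * R) = pa⁻¹ * (1, loG (1 : Fq S)) * pa by ext <;> simp [hR], map_mul, map_mul,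
      map_inv, ← e2]
    conv_rhs => rw [← e1]
    group
  rw [mul_assoc, inv_mul_eq_iff_eq_mul] at conj14 conj9
  have r1 := congrArg (fun B : GL (Fin 2) (Fq S) => B.1) conj14
  have r2 := congrArg (fun B : GL (Fin 2) (Fq S) => B.1) conj9
  simp only [Units.val_mul, upG_val, loG_val, ← Matrix.ext_iff, Fin.forall_fin_two, up2, lo2, Matrix.mul_apply,
    Fin.sum_univ_two] at r1 r2
  simp at r1 r2
  have R11 : R.1 1 1 = 0 := r1.2
  have R00 : R.1 0 0 = 0 := r2.1
  have R01 : R.1 1 0 = R.1 0 1 := r1.1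
  obtain ⟨y, hy, v, hv, u', hu', pX, a, hpX, hXT, he⟩ :=
    middle_cell (S := S) h2 (P.tgt * (tpar S (pa * p'))⁻¹)
  have ht : tpar S (pX * (pa * p')) = P.tgt := by rw [map_mul, hXT, inv_mul_cancel_right]
  obtain ⟨a', hdet, ha'⟩ := exists_norm S (U := P.U * P.U) (d := P.d) ht
  rw [hpa, mul_assoc (nD S), ← map_mul]
  refine reach P hy hv hu' hu he (ha' (pX * (pa * p')).2) hdet ?_
  obtain ⟨r, hr⟩ : ∃ r : Fq S, r = (a' : Fq S) * a * R.1 0 1 := ⟨_, rfl⟩
  obtain ⟨A, hA⟩ : ∃ A, A = p'.2.1 := ⟨_, rfl⟩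
  have hM : (scal a' * (pX * (pa * p')).2).1 = !![r * A 1 0, r * A 1 1; r * A 0 0, r * A 0 1] := by
    rw [Prod.snd_mul, Prod.snd_mul, hpX, ← hR, Units.val_mul, Units.val_mul, Units.val_mul, scal_val, scal_val, hr,
      hA]
    ext i j
    fin_cases i <;> fin_cases j <;>
      simp [Matrix.mul_apply, Fin.sum_univ_two, Matrix.vecMul, dotProduct, R00, R11, R01] <;> ring
  have hdetv : (!![r * A 1 0, r * A 1 1; r * A 0 0, r * A 0 1] : Matrix (Fin 2) (Fin 2) (Fq S)).det =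
      (P.d : Fq S) * P.d := by
    rw [← hM, ← Matrix.GeneralLinearGroup.val_det_apply, hdet, Units.val_mul]
  rw [Matrix.det_fin_two_of] at hdetv
  rw [← hA] at h
  have hr0 : r ≠ 0 := fun h0 => mul_ne_zero P.d.ne_zero P.d.ne_zero (by rw [← hdetv, h0]; ring)
  rw [hM]
  by_cases hs : A 1 0 + A 0 1 = 0
  · obtain ⟨h00, h11⟩ := h.resolve_left (not_not.2 (by rw [add_comm]; exact hs))
    left
    have e10 : A 1 0 = A 0 1 := by linear_combination hs - (A 0 1) * h2
    rw [h00, h11, e10] at hdetv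
    have e : r * A 0 1 = P.d := by
      have : (r * A 0 1 - P.d) * (r * A 0 1 - P.d) = 0 := by
        linear_combination hdetv + ((P.d : Fq S) * P.d - r * A 0 1 * P.d) * h2
      exact sub_eq_zero.1 (mul_self_eq_zero.1 this)
    ext i j
    fin_cases i <;> fin_cases j <;> simp [h00, h11, e10, e]
  · refine Or.inr ⟨?_, ?_⟩
    · rw [h2, zero_mul, trace2]
      simpa [← mul_add, hr0] using hs
    · intro hneg
      have := congrArg Matrix.trace hneg
      rw [GTwoThompson.neg_smul_one_trace, h2, zero_mul, neg_zero, trace2] at this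
      simp [← mul_add, hr0] at this
      exact hs this

/-- The cell of the longest element. -/
theorem cell_opp (p' : Kˣ × GL (Fin 2) (Fq S)) {u : GD K} (hu : u ∈ Upos (K := K) (q := q)) :
    Cov P (n0 S * Lv S p' * u) := by
  obtain ⟨c, c', hcc, hc1, hct⟩ := twist_const (S := S)
  obtain ⟨w, hw⟩ : ∃ w, w = P.tgt * (tpar S p')⁻¹ := ⟨_, rfl⟩
  obtain ⟨pt, h10, h01, htp, hpt⟩ := exists_torus S (t := w) (m := 1) (one_pow q)
  obtain ⟨y, hy, v, hv, u', hu', he⟩ := long_cell (S := S) w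
  rw [← hpt] at he
  have ht : tpar S (pt * p') = P.tgt := by rw [map_mul, htp, hw, inv_mul_cancel_right]
  obtain ⟨a, hdet, ha⟩ := exists_norm S (U := P.U * P.U) (d := P.d) ht
  obtain ⟨D, hD⟩ : ∃ D, D = pt.2.1 := ⟨_, rfl⟩
  rw [← hD] at h10 h01
  have hDd : D 0 0 * D 1 1 ≠ 0 := by
    have := (Matrix.GeneralLinearGroup.det pt.2).ne_zero
    rwa [Matrix.GeneralLinearGroup.val_det_apply, ← hD, Matrix.det_fin_two, h10, mul_zero, sub_zero] at this
  obtain ⟨h00, h11⟩ := ne_zero_and_ne_zero_of_mul hDd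
  let Q : Matrix (Fin 2) (Fin 2) (Fq S) → Prop := fun M => ∀ A : GL (Fin 2) (Fq S),
    (scal a * (pt.2 * A)).1 = M → ∀ u ∈ Upos (K := K) (q := q), Cov P (n0 S * Lv S (p'.1, A) * u)
  obtain ⟨k, hk⟩ : ∃ k, k = -c * (D 1 1 / D 0 0) := ⟨_, rfl⟩
  obtain ⟨k', hk'⟩ : ∃ k', k' = -c' * (D 0 0 / D 1 1) := ⟨_, rfl⟩
  have hkk : k * k' = 1 := by
    rw [hk, hk']; field_simp; linear_combination hcc
  have hval : ∀ A : GL (Fin 2) (Fq S), (scal a * (pt.2 * A)).1 = (a : Fq S) • (D * A.1) := fun A => by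
    rw [Units.val_mul, Units.val_mul, ← hD, scal_val]
    ext i j
    fin_cases i <;> fin_cases j <;> simp [Matrix.mul_apply, Fin.sum_univ_two, Matrix.vecMul, dotProduct]
  have key := shape_opp (d := (P.d : Fq S)) P.d.ne_zero hkk Q ?_ ?_ ?_ ?_
  · exact key _ (by rw [← Matrix.GeneralLinearGroup.val_det_apply, ← Units.val_mul, ← hdet]; rfl) p'.2 rfl u hu
  · intro M e _ hQ A hA u₁ hu₁
    refine cov_twist P (Q := ((1 : Kˣ), upG e)⁻¹) (Q' := ((1 : Kˣ), loG (c * e))⁻¹) ?_ (fun u₂ hu₂ => ?_) hu₁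
    · rw [map_inv, map_inv, ← (hct e).1]; group
    rw [show ((1 : Kˣ), loG (c * e))⁻¹ * (p'.1, A) * ((1 : Kˣ), upG e)⁻¹⁻¹ =
      (p'.1, loG (-(c * e)) * A * upG e) by
      rw [inv_inv, Prod.inv_mk, inv_one, toGL_lo_inv, Prod.mk_mul_mk, Prod.mk_mul_mk, one_mul, mul_one]]
    refine hQ _ ?_ u₂ hu₂
    rw [hval, Units.val_mul, Units.val_mul, loG_val, upG_val, ← hA, hval, ← mul_assoc, ← mul_assoc,
      diag_lo h10 h01 h00, hk]
    simp only [Matrix.smul_mul, Matrix.mul_smul, mul_assoc]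
    rw [show D 1 1 / D 0 0 * -(c * e) = -c * (D 1 1 / D 0 0 * e) by ring]
  · intro M e _ hQ A hA u₁ hu₁
    refine cov_twist P (Q := ((1 : Kˣ), loG e)⁻¹) (Q' := ((1 : Kˣ), upG (c' * e))⁻¹) ?_ (fun u₂ hu₂ => ?_) hu₁
    · rw [map_inv, map_inv, ← (hct e).2]; group
    rw [show ((1 : Kˣ), upG (c' * e))⁻¹ * (p'.1, A) * ((1 : Kˣ), loG e)⁻¹⁻¹ =
      (p'.1, upG (-(c' * e)) * A * loG e) by
      rw [inv_inv, Prod.inv_mk, inv_one, toGL_up_inv, Prod.mk_mul_mk, Prod.mk_mul_mk, one_mul, mul_one]]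
    refine hQ _ ?_ u₂ hu₂
    rw [hval, Units.val_mul, Units.val_mul, loG_val, upG_val, ← hA, hval, ← mul_assoc, ← mul_assoc,
      diag_up h10 h01 h11, hk']
    simp only [Matrix.smul_mul, Matrix.mul_smul, mul_assoc]
    rw [show D 0 0 / D 1 1 * -(c' * e) = -c' * (D 0 0 / D 1 1 * e) by ring]
  · intro M hM hgood A hA u₁ hu₁
    refine reach P hy hv hu' hu₁ he (M := scal a * (pt.2 * A)) ?_ ?_ (by rw [hA]; exact hgood)
    · rw [show pt * (p'.1, A) = ((pt * p').1, pt.2 * A) from rfl, ha]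
    · ext1
      rw [Matrix.GeneralLinearGroup.val_det_apply, hA, hM, Units.val_mul]
  · intro h2 M _ hσ A hA u₁ hu₁
    refine opp_two P h2 (p'.1, A) ?_ hu₁
    rw [hval] at hA
    subst hA
    have hkv : k = D 1 1 / D 0 0 := by
      rw [hk, hc1 h2]; linear_combination -(D 1 1 / D 0 0) * h2
    simp [Matrix.mul_apply, Fin.sum_univ_two, h10, h01, a.ne_zero, h00, h11] at hσ
    refine hσ.imp_left fun hne h0 => hne ?_
    rw [hkv]
    field_simp
    linear_combination (D 1 1 * (a : Fq S)) * h0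

end Cfsg.Agent.Small.DFourThompson
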