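import Cfsg.Agent.Lib.Small.DFourThompson.Levi

/-!
The unipotent radical of the parabolic subgroup and its opposite in the triality groups of type D4, and the
elements whose cosets of these subgroups consist of conjugates.
-/

set_option autoImplicit false
set_option maxRecDepth 4000
set_option linter.unusedSectionVars false
set_option linter.unusedSimpArgs false

namespace Cfsg.Agent.Small.DFourThompson

open Cfsg.Lie Matrix Cfsg.Agent.Lie Cfsg.Agent.Small.D4Torus Cfsg.Agent.Small.SpFourThompson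
open Cfsg.Agent.Small.GTwoThompson (GoodS)
open Cfsg.Agent.Lie.D4 (Setup neZero_rank)
open Cfsg.Agent.Lie.D4.Setup (cB)
open scoped MatrixGroups

local notation "GD" => GL chevD4.Idx

/-- The positive roots of the radical. -/
def posR : List ℕ := (Facts.posL chevD4).filter fun r => r != 14

/-- The negative roots of the opposite radical. -/
def negR : List ℕ := (List.range 12).filter fun r => r != 9

/-- The permutation of roots of the element of the longest Weyl element. -/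
def pi0 (r : ℕ) : ℕ :=
  actR chevD4 ((AltSec.D4.word0).map Fin.val) (actR chevD4 [1]
    (actR chevD4 ((AltSec.D4.word0).reverse.map Fin.val) (actR chevD4 [0, 2, 3] r)))

theorem pi0_tab : (∀ r < 24, pi0 r < 24 ∧ pi0 (pi0 r) = r) ∧ pi0 14 = 9 ∧ pi0 9 = 14 ∧
    (∀ r ∈ posR, pi0 r ∈ negR) ∧ (∀ r ∈ negR, pi0 r ∈ posR) ∧
    (∀ r ∈ List.range 12, pi0 r ∈ Facts.posL chevD4) := by decide +kernel

theorem word0_tab : ∀ r < 24, actR chevD4 ((AltSec.D4.word0).map Fin.val) r < 24 ∧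
    actR chevD4 ((AltSec.D4.word0).reverse.map Fin.val) r < 24 ∧
    actR chevD4 ((AltSec.D4.word0).map Fin.val) (actR chevD4 ((AltSec.D4.word0).reverse.map Fin.val) r) = r := by
  decide +kernel

theorem rad_tab : (∀ s ∈ posR, s < 24) ∧ (∀ s ∈ negR, s < 24) ∧
    (∀ r ∈ [14, 9], ∀ s ∈ posR, s ≠ chevD4.neg r ∧ (s ≠ r → ∀ c ∈ chevD4.commTerms r s, c.1 ∈ posR)) ∧
    (∀ r ∈ [14, 9], ∀ s ∈ negR, s ≠ chevD4.neg r ∧ (s ≠ r → ∀ c ∈ chevD4.commTerms r s, c.1 ∈ negR)) ∧
    (∀ s ∈ posR, graphD4a.img s ∈ posR) ∧ (∀ s ∈ posR, s ∈ Facts.posL chevD4) ∧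
    (graphD4a.img 14 = 14 ∧ graphD4a.sign 14 = 1) := by decide +kernel

variable {K : Type*} [Field K] [Fintype K] {q : ℕ} (S : Setup K q)

/-- Permuting the root subgroups. -/
def Mono (g : GD K) (π : ℕ → ℕ) : Prop :=
  ∀ r, r < 24 → π r < 24 ∧ ∃ e : K, e * e = 1 ∧ ∀ t, g * factsD4.xg r t * g⁻¹ = factsD4.xg (π r) (e * t)

theorem Mono.mul {g h : GD K} {π π' : ℕ → ℕ} (hg : Mono g π) (hh : Mono h π') :
    Mono (g * h) fun r => π (π' r) := by
  intro r hr
  obtain ⟨h1, e, he, h2⟩ := hh r hr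
  obtain ⟨g1, f, hf, g2⟩ := hg _ h1
  refine ⟨g1, f * e, by rw [mul_mul_mul_comm, hf, he, one_mul], fun t => ?_⟩
  rw [show g * h * factsD4.xg r t * (g * h)⁻¹ = g * (h * factsD4.xg r t * h⁻¹) * g⁻¹ by group, h2, g2, mul_assoc]

theorem Mono.inv {g : GD K} {π π' : ℕ → ℕ} (hg : Mono g π) (h : ∀ r < 24, π' r < 24 ∧ π (π' r) = r) :
    Mono g⁻¹ π' := by
  intro r hr
  obtain ⟨hlt, e⟩ := h r hr
  obtain ⟨-, c, hc, h2⟩ := hg _ hlt
  refine ⟨hlt, c, hc, fun t => ?_⟩
  have := h2 (c * t)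
  rw [e, ← mul_assoc, hc, one_mul] at this
  rw [← this, inv_inv]
  group

theorem Mono.conj_US {g : GD K} {π : ℕ → ℕ} (hg : Mono g π) {L L' : List ℕ}
    (h : ∀ r ∈ L, r < 24 ∧ π r ∈ L') {z : GD K} (hz : z ∈ (factsD4.tsys K).US L) :
    g * z * g⁻¹ ∈ (factsD4.tsys K).US L' := by
  have : (factsD4.tsys K).US L ≤ ((factsD4.tsys K).US L').comap (MulAut.conj g).toMonoidHom := by
    refine CommSys.US_le _ fun r hr t => ?_
    obtain ⟨-, e, -, he⟩ := hg r (h r hr).1
    show g * (factsD4.tsys K).x r t * g⁻¹ ∈ (factsD4.tsys K).US L'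
    rw [factsD4.tsys_x, he, ← factsD4.tsys_x]
    exact CommSys.x_mem_US _ (h r hr).2 _
  exact this hz

theorem mono_nw (ω : List (Fin chevD4.rank)) :
    Mono ((factsD4.tsys K).nw ω) (actR chevD4 (ω.map Fin.val)) := by
  intro r hr
  obtain ⟨e, he, h⟩ := (factsD4.tsys K).nw_conj ω ⟨r, hr⟩
  have hval : (factsD4.refSys.pr ω • (⟨r, hr⟩ : Fin chevD4.nroots)).val = actR chevD4 (ω.map Fin.val) r :=
    factsD4.pr_smul_val _ _
  refine ⟨hval ▸ Fin.isLt _, e, he, fun t => ?_⟩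
  have := h t
  rwa [hval] at this

/-- The rank one element of the long node. -/
noncomputable def nA (K : Type*) [Field K] : GD K := phi K antS

/-- The rank one element of the short node. -/
noncomputable def nB : GD K := AltSec.D4.phiB S antS

theorem nA_eq : nA K = (factsD4.tsys K).nw [(1 : Fin chevD4.rank)] := by
  rw [TorusSys.nw_singleton, nA, antS_eq, map_mul, map_mul, phi_up, phi_lo, factsD4.tsys_nS, factsD4.ng_eq,
    show chevD4.simple (1 : Fin chevD4.rank).val = 14 from s1.1, s1.2, inv_one]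

theorem nB_eq : nB S = (factsD4.tsys K).nw [(0 : Fin chevD4.rank), 2, 3] := AltSec.D4.phiB_ant S

/-- The element of the longest Weyl element. -/
noncomputable def n0 : GD K :=
  AltSec.D4.phiA (Fq S).subtype (antS (F := Fq S)) * nB S

theorem phiA_ant : AltSec.D4.phiA (Fq S).subtype (antS (F := Fq S)) =
    (factsD4.tsys K).nw AltSec.D4.word0 * nA K * ((factsD4.tsys K).nw AltSec.D4.word0)⁻¹ := by
  show (factsD4.tsys K).nw AltSec.D4.word0 * phi K (Matrix.SpecialLinearGroup.map (Fq S).subtype antS) * _ = _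
  rw [AltSec.D4.map_antS, nA]

theorem mono_n0 : Mono (n0 S) pi0 := by
  have hA : Mono (nA K) (actR chevD4 [1]) := by rw [nA_eq]; exact mono_nw _
  have hB : Mono (nB S) (actR chevD4 [0, 2, 3]) := by rw [nB_eq]; exact mono_nw _
  have hW := mono_nw (K := K) AltSec.D4.word0
  have hWi := hW.inv (π' := actR chevD4 ((AltSec.D4.word0).reverse.map Fin.val))
    fun r hr => ⟨(word0_tab r hr).2.1, (word0_tab r hr).2.2⟩
  have h := ((hW.mul hA).mul hWi).mul hB
  rw [n0, phiA_ant]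
  exact h

theorem mono_n0_inv : Mono (n0 S)⁻¹ pi0 := (mono_n0 S).inv pi0_tab.1

include S in
theorem nA_mem : nA K ∈ twistedD4 K q := by
  rw [nA, ← Lv_ant S]; exact Lv_mem S _

theorem nB_mem : nB S ∈ twistedD4 K q := by
  rw [nB]
  exact AltSec.D4.mem_of_gens _ (fun t => by rw [AltSec.D4.phiB_up]; exact S.B_mem (Or.inl rfl) t)
    (fun t => by rw [AltSec.D4.phiB_lo]; exact S.B_mem (Or.inr rfl) t) _

theorem n0_mem : n0 S ∈ twistedD4 K q := by
  rw [n0, phiA_ant]
  exact mul_mem (mul_mem (mul_mem (nwOrb_mem S _) (nA_mem S)) (inv_mem (nwOrb_mem S _))) (nB_mem S)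

/-- The normaliser of a root subgroup product. -/
def nrmz (L : List ℕ) : Subgroup (GD K) := Subgroup.normalizer (((factsD4.tsys K).US L) : Set (GD K))

theorem H_le_nrmz {L : List ℕ} (hL : ∀ r ∈ L, r < 24) {g : GD K} (hg : g ∈ (factsD4.tsys K).H) :
    g ∈ nrmz L := by
  rw [nrmz, Subgroup.mem_normalizer_iff]
  refine fun u => ⟨fun hu => (factsD4.tsys K).H_conj_US hg hL hu, fun hu => ?_⟩
  have h := (factsD4.tsys K).H_conj_US (inv_mem hg) hL hu
  rwa [show g⁻¹ * (g * u * g⁻¹) * g⁻¹⁻¹ = u by group] at h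

theorem Lv_nrmz {L : List ℕ} (hL : L = posR ∨ L = negR) (p : Kˣ × GL (Fin 2) (Fq S)) :
    Lv S p ∈ nrmz (K := K) L := by
  obtain ⟨h1, h2, h3, h4, -⟩ := rad_tab
  have hlt : ∀ r ∈ L, r < 24 := by rcases hL with rfl | rfl <;> assumption
  have hx : ∀ r ∈ [14, 9], ∀ t : K, factsD4.xg r t ∈ nrmz L := by
    intro r hr t
    rw [← factsD4.tsys_x]
    refine CommSys.x_normalizes _ (by simp at hr; rcases hr with rfl | rfl <;> decide +kernel)
      (fun s hs => ⟨hlt s hs, ?_⟩) t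
    rcases hL with rfl | rfl
    · exact h3 r hr s hs
    · exact h4 r hr s hs
  rw [show Lv S p = zz S p.1 * Phi (gmap S p.2) from rfl, Phi_apply]
  refine mul_mem (H_le_nrmz hlt (tt_mem_H S _ _)) (mul_mem (H_le_nrmz hlt ?_) ?_)
  · rw [factsD4.tsys_H, factsD4.diagonalSubgroup_eq]; exact ⟨_, rfl⟩
  · refine AltSec.D4.mem_of_gens _ (fun t => ?_) (fun t => ?_) _
    · rw [phi_up]; exact hx 14 (by simp) t
    · rw [phi_lo]; exact hx 9 (by simp) t

/-- The radical. -/
noncomputable def Upos : Subgroup (GD K) := (factsD4.tsys K).US posR ⊓ twistedD4 K q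

/-- The opposite radical. -/
noncomputable def Uneg : Subgroup (GD K) := (factsD4.tsys K).US negR ⊓ twistedD4 K q

theorem Lv_conj {L : List ℕ} (hL : L = posR ∨ L = negR) (p : Kˣ × GL (Fin 2) (Fq S)) {z : GD K}
    (hz : z ∈ (factsD4.tsys K).US L ⊓ twistedD4 K q) :
    Lv S p * z * (Lv S p)⁻¹ ∈ (factsD4.tsys K).US L ⊓ twistedD4 K q :=
  Subgroup.mem_inf.2 ⟨(Subgroup.mem_normalizer_iff.1 (Lv_nrmz S hL p) z).1 hz.1,
    mul_mem (mul_mem (Lv_mem S p) hz.2) (inv_mem (Lv_mem S p))⟩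

theorem Lv_conj' {L : List ℕ} (hL : L = posR ∨ L = negR) (p : Kˣ × GL (Fin 2) (Fq S)) {z : GD K}
    (hz : z ∈ (factsD4.tsys K).US L ⊓ twistedD4 K q) :
    (Lv S p)⁻¹ * z * Lv S p ∈ (factsD4.tsys K).US L ⊓ twistedD4 K q := by
  have := Lv_conj S hL p⁻¹ hz
  rwa [map_inv, inv_inv] at this

theorem posR_le : (factsD4.tsys K).US posR ≤ (factsD4.tsys K).U :=
  CommSys.US_mono _ rad_tab.2.2.2.2.2.1

theorem sq_fix {e : K} : (∃ x : Fq S, (x : K) = e) ↔ e ^ q = e :=
  ⟨fun ⟨x, hx⟩ => hx ▸ pow_val S x, fun h => ⟨⟨e, (mem_Fq S).2 h⟩, rfl⟩⟩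

/-- Splitting the root subgroup of the long node off the positive unipotent subgroup. -/
theorem split_pos {z : GD K} (hz : z ∈ (factsD4.tsys K).U) (hG : z ∈ twistedD4 K q) :
    ∃ (e : Fq S), ∃ u ∈ Upos (K := K) (q := q), z = Lv S (1, upG e) * u := by
  obtain ⟨h1, -, h3, -, h5, h6, h14⟩ := rad_tab
  have hnorm : ∀ t : K, factsD4.xg 14 t ∈ nrmz (K := K) posR := fun t => by
    rw [← factsD4.tsys_x]
    exact CommSys.x_normalizes _ (by decide +kernel) (fun s hs => ⟨h1 s hs, h3 14 (by simp) s hs⟩) t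
  have key : ∃ (a : K), ∃ u ∈ (factsD4.tsys K).US posR, z = factsD4.xg 14 a * u := by
    clear hG
    induction hz using Subgroup.closure_induction with
    | mem g hg =>
      obtain ⟨r, hr, a, rfl⟩ := hg
      by_cases h : r = 14
      · subst h; exact ⟨a, 1, one_mem _, by rw [mul_one, factsD4.tsys_x]⟩
      · refine ⟨0, _, CommSys.x_mem_US _ (List.mem_filter.2 ⟨hr, by simpa using h⟩) a, ?_⟩
        rw [factsD4.xg_zero, one_mul]
    | one => exact ⟨0, 1, one_mem _, by rw [factsD4.xg_zero, one_mul]⟩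
    | mul p r _ _ hp hr =>
      obtain ⟨a, u, hu, rfl⟩ := hp
      obtain ⟨b, v, hv, rfl⟩ := hr
      refine ⟨a + b, (factsD4.xg 14 b)⁻¹ * u * factsD4.xg 14 b * v,
        mul_mem ((Subgroup.mem_normalizer_iff''.1 (hnorm b) u).1 hu) hv, ?_⟩
      rw [factsD4.xg_add]
      group
    | inv p _ hp =>
      obtain ⟨a, u, hu, rfl⟩ := hp
      refine ⟨-a, factsD4.xg 14 a * u⁻¹ * (factsD4.xg 14 a)⁻¹,
        (Subgroup.mem_normalizer_iff.1 (hnorm a) u⁻¹).1 (inv_mem hu), ?_⟩
      rw [factsD4.xg_neg]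
      group
  obtain ⟨a, u, hu, rfl⟩ := key
  have hf := (S.le_fix hG).2
  have hxa : factsD4.xg 14 a ∈ chevD4.group K := factsD4.xg_mem_group 14 a
  have hug : u ∈ chevD4.group K := S.T.US_le_group _ hu
  rw [S.T.sig_mul _ hxa _ hug, S.T.sig_x 14 (by decide +kernel), factsD4.imgX_lt _ (by decide +kernel),
    S.expo_one (by norm_num), S.hfr, S.hR, h14.1, h14.2, Int.cast_one, one_mul, pow_one] at hf
  have hu' : S.T.sig u ∈ (factsD4.tsys K).US posR :=
    S.T.sig_US (fun r hr => ⟨h1 r hr, by rw [S.hR]; exact h5 r hr⟩) hu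
  have hd : factsD4.xg 14 (a ^ q - a) ∈ (factsD4.tsys K).US posR := by
    have e : factsD4.xg 14 (a ^ q - a) = (factsD4.xg 14 (a ^ q) * ((factsD4.xg 14 a)⁻¹)) := by
      rw [← factsD4.xg_neg, ← factsD4.xg_add, sub_eq_add_neg]
    have e2 : (factsD4.xg 14 a)⁻¹ * factsD4.xg 14 (a ^ q) = u * (S.T.sig u)⁻¹ := by
      rw [inv_mul_eq_iff_eq_mul, eq_mul_inv_iff_mul_eq.2 hf]; group
    rw [e, ← factsD4.xg_neg, ← factsD4.xg_add, add_comm, factsD4.xg_add, factsD4.xg_neg, e2]
    exact mul_mem hu (inv_mem hu')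
  have haq : a ^ q = a := by
    obtain ⟨c, hc⟩ := CommSys.exists_prodOver (factsD4.sys K).toCommSys closedR hd
    have hc' : (factsD4.sys K).prodOver (Facts.posL chevD4) (fun r => if r = 14 then a ^ q - a else 0) =
        (factsD4.sys K).prodOver (Facts.posL chevD4) (fun r => if r = 14 then 0 else c r) := by
      rw [prodOver_filter (fun r => r == 14) (fun r _ h => by simp at h; simp [h]),
        prodOver_filter (c := fun r => if r = 14 then 0 else c r) (fun r => r != 14) (fun r _ h => by simp at h; simp [h]),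
        show (Facts.posL chevD4).filter (fun r => r == 14) = [14] by decide +kernel]
      simp only [CommSys.prodOver, List.map_cons, List.map_nil, List.prod_cons, List.prod_nil, mul_one, Facts.sys_x,
        if_true]
      refine hc.trans ?_
      refine congrArg List.prod (List.map_congr_left fun r hr => ?_)
      have hne : r ≠ 14 := by simpa [posR] using (List.mem_filter.1 hr).2
      simp only [Facts.sys_x, if_neg hne]
    have := factsD4.prodOver_inj factsD4.closedList_posL hc' 14 (by decide +kernel)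
    simpa [sub_eq_zero] using this
  obtain ⟨e, he⟩ := (sq_fix S).2 haq
  refine ⟨e, u, ⟨hu, ?_⟩, by rw [Lv_up, he]⟩
  have := mul_mem (inv_mem (S.A_mem (Or.inl rfl) haq)) hG
  rwa [inv_mul_cancel_left] at this
where
  closedR : ClosedList chevD4 posR := by
    refine ⟨?_, ?_, ?_⟩ <;> decide +kernel

/-- Splitting the root subgroup of the long node off the negative unipotent subgroup. -/
theorem split_neg {z : GD K} (hz : z ∈ (factsD4.tsys K).US (List.range 12)) (hG : z ∈ twistedD4 K q) :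
    ∃ (e : Fq S), ∃ u ∈ Uneg (K := K) (q := q), z = u * Lv S (1, loG e) := by
  obtain ⟨hlt, h14, -, hpn, -, hall⟩ := pi0_tab
  have hz' := (mono_n0 S).conj_US (fun r hr => ⟨(List.mem_range.1 hr).trans (by norm_num), hall r hr⟩) hz
  obtain ⟨e, u, hu, he⟩ := split_pos S hz' (mul_mem (mul_mem (n0_mem S) hG) (inv_mem (n0_mem S)))
  obtain ⟨-, c, hc, hc2⟩ := mono_n0_inv S 14 (by norm_num)
  have hcf : (c * (e : K)) ^ q = c * (e : K) := by
    rcases mul_self_eq_one_iff.1 hc with h | h <;> rw [h]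
    · rw [one_mul, pow_val S e]
    · rw [neg_one_mul, ← S.hfr, map_neg, S.hfr, pow_val S e]
  obtain ⟨e', he'⟩ := (sq_fix S).2 hcf
  have hu' : (n0 S)⁻¹ * u * n0 S ∈ Uneg (K := K) (q := q) := by
    refine Subgroup.mem_inf.2 ⟨?_, mul_mem (mul_mem (inv_mem (n0_mem S)) hu.2) (n0_mem S)⟩
    have := (mono_n0_inv S).conj_US (fun r hr => ⟨rad_tab.1 r hr, hpn r hr⟩) hu.1
    rwa [inv_inv] at this
  refine ⟨e', _, Lv_conj S (Or.inr rfl) (1, loG e') hu', ?_⟩
  have e2 := hc2 (e : K)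
  rw [inv_inv, h14, ← he', ← Lv_lo] at e2
  rw [Lv_up] at he
  rw [inv_mul_cancel_right, ← e2]
  calc z = (n0 S)⁻¹ * (n0 S * z * (n0 S)⁻¹) * n0 S := by group
    _ = _ := by rw [he]; group

end Cfsg.Agent.Small.DFourThompson
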